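import Cfsg.Agent.R2.H1.DZ.LL
import Cfsg.Agent.H686.VO.PSLDZ
import Cfsg.Agent.H872.PV.PSL

/-!
# Characters of `p`-defect zero of `PSL_n(q)`, `p ≥ 5` prime to `q` (S4527)

* `hasDZ_psl` : **`HasDZ p (PSL n F)`** for `n ≥ 2`, `|F| ≥ 4` if `n = 2`, `p ≥ 5` prime to `|F|`.
-/

set_option autoImplicit false
set_option linter.unusedSectionVars false

open Cfsg
open scoped ComplexConjugate MatrixGroups

namespace Cfsg.Agent.R2.H1.DZ

open Cfsg.Agent.H665.NoPQ

universe u

variable {F : Type u} [Field F] [Fintype F] {n p : ℕ}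

theorem card_sub_natAbs (F : Type u) [Field F] [Fintype F] : ((Fintype.card F : ℤ) - 1).natAbs = Fintype.card F - 1 := by
  have : 2 ≤ Fintype.card F := Fintype.one_lt_card
  omega

theorem two_le_abs (F : Type u) [Field F] [Fintype F] : 2 ≤ |(Fintype.card F : ℤ)| := by
  rw [Nat.abs_cast]
  exact_mod_cast Fintype.one_lt_card (α := F)

/-- the order of `PSL_n(q)` -/
theorem vz_card_psl (hn : 2 ≤ n) (hp : p.Prime) (hpq : ¬ p ∣ Fintype.card F) :
    vz p (PHz (Fintype.card F : ℤ) n) = (Nat.gcd n (Fintype.card F - 1)).factorization p +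
      (Fintype.card F - 1).factorization p +
      (Nat.card (Matrix.ProjectiveSpecialLinearGroup (Fin n) F)).factorization p := by
  have hq : 2 ≤ Fintype.card F := Fintype.one_lt_card
  obtain ⟨m, rfl⟩ : ∃ m, n = m + 2 := ⟨n - 2, by omega⟩
  have hfin : Finite (Matrix.ProjectiveSpecialLinearGroup (Fin (m + 2)) F) := inferInstance
  have h1 := Cfsg.Agent.H686.VO.PSL.card_psl F m
  have h2 : (PHz (Fintype.card F : ℤ) (m + 2)).natAbs =
      (∏ i ∈ Finset.range (m + 1), (Fintype.card F ^ (i + 2) - 1)) * (Fintype.card F - 1) := by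
    rw [PHz, ← Int.natAbsHom_apply, map_prod, Finset.prod_range_succ']
    congr 1
    · refine Finset.prod_congr rfl fun i _ => ?_
      rw [Int.natAbsHom_apply]
      have h3 : 1 ≤ Fintype.card F ^ (i + 2) := Nat.one_le_pow _ _ (by omega)
      rw [show i + 1 + 1 = i + 2 from rfl, ← Nat.cast_pow]
      omega
    · rw [Int.natAbsHom_apply, zero_add, pow_one, card_sub_natAbs]
  have h3 := congrArg (fun m : ℕ => m.factorization p) h1
  have hg0 : Nat.gcd (m + 2) (Fintype.card F - 1) ≠ 0 := Nat.gcd_ne_zero_right (by omega)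
  have hp0 : (∏ i ∈ Finset.range (m + 1), (Fintype.card F ^ (i + 2) - 1)) ≠ 0 := by
    intro h0
    have h4 := PHz_ne (two_le_abs F) (m + 2)
    rw [← Int.natAbs_ne_zero, h2, h0, zero_mul] at h4
    exact h4 rfl
  rw [Nat.factorization_mul hg0 Nat.card_pos.ne', Nat.factorization_mul (pow_ne_zero _ (by omega)) hp0] at h3
  simp only [Finsupp.coe_add, Pi.add_apply] at h3
  rw [Nat.factorization_eq_zero_of_not_dvd (fun h => hpq (hp.dvd_of_dvd_pow h)), zero_add] at h3
  rw [vz, h2, Nat.factorization_mul hp0 (by omega), Finsupp.add_apply, ← h3]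
  ring

/-- defect zero from a good character -/
theorem hasDZ_of_goodL (hn : 2 ≤ n) (hp : p.Prime) (hpq : ¬ p ∣ Fintype.card F) {D : ℤ}
    (hD0 : D ≠ 0) (hD : vz p D = (Fintype.card F - 1).factorization p +
      (Nat.gcd n (Fintype.card F - 1)).factorization p)
    (h : GoodL F n p D) : HasDZ p (Matrix.ProjectiveSpecialLinearGroup (Fin n) F) := by
  obtain ⟨η, r, hr, u, hu⟩ := exists_psl (by omega) hp h
  have hfin : Finite (Matrix.ProjectiveSpecialLinearGroup (Fin n) F) := inferInstance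
  refine ⟨η, ?_⟩
  have h1 := congrArg (vz p) hu
  have hd0 : charDegree (η : Matrix.ProjectiveSpecialLinearGroup (Fin n) F → ℂ) ≠ 0 :=
    (Cfsg.Agent.Blocks.Basic.charDegree_pos η.2).ne'
  have hr0 : r ≠ 0 := by
    rintro rfl
    exact hr (dvd_zero p)
  rw [vz_unit, vz_mul (by exact_mod_cast mul_ne_zero hd0 hr0) hD0, hD, vz_card_psl (by omega) hp hpq] at h1
  have h2 : vz p ((charDegree (η : Matrix.ProjectiveSpecialLinearGroup (Fin n) F → ℂ) * r : ℕ) : ℤ) =
      (charDegree (η : Matrix.ProjectiveSpecialLinearGroup (Fin n) F → ℂ)).factorization p := by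
    rw [vz, Int.natAbs_natCast, Nat.factorization_mul hd0 hr0, Finsupp.add_apply,
      Nat.factorization_eq_zero_of_not_dvd hr, add_zero]
  rw [h2] at h1
  omega

theorem pow_natAbs (F : Type u) [Field F] [Fintype F] (k : ℕ) :
    ((Fintype.card F : ℤ) ^ k - 1).natAbs = Fintype.card F ^ k - 1 := by
  have h3 : 1 ≤ Fintype.card F ^ k := Nat.one_le_pow _ _ Fintype.card_pos
  rw [← Nat.cast_pow]
  omega

/-- `p ∣ q - 1`, `p ∣ n` -/
theorem hasDZ_both (hn : 5 ≤ n) (hp : p.Prime) (h5 : 5 ≤ p) (hpq : ¬ p ∣ Fintype.card F)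
    (h1 : p ∣ Fintype.card F - 1) (h2 : p ∣ n) :
    HasDZ p (Matrix.ProjectiveSpecialLinearGroup (Fin n) F) := by
  have ho : Odd p := hp.odd_of_ne_two (by omega)
  have hq2 : 2 ≤ Fintype.card F := Fintype.one_lt_card
  have hq6 : 4 ≤ Fintype.card F := by
    have := Nat.le_of_dvd (by omega) h1
    omega
  have hQ := two_le_abs F
  have hQ3 : 3 ≤ |(Fintype.card F : ℤ)| := by
    rw [Nat.abs_cast]
    exact_mod_cast (show 3 ≤ Fintype.card F by omega)
  have h1' : (p : ℤ) ∣ (Fintype.card F : ℤ) - 1 := by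
    rw [← Int.dvd_natAbs, card_sub_natAbs]
    exact_mod_cast h1
  rcases le_total (n.factorization p) ((Fintype.card F - 1).factorization p) with h3 | h3
  · refine hasDZ_of_goodL (by omega) hp hpq (Cfsg.Agent.H421.HT.pow_sub_one_ne hQ (show 0 < n by omega)) ?_
      (goodL_T (by omega) hp hpq (full_of_three hQ3 (by omega)) (Or.inr (Or.inr ⟨hn, hq6⟩)))
    have h4 := vz_T hp ho hQ (n := n) (by omega) (Or.inr ⟨h1', by rw [vz, card_sub_natAbs]; exact h3⟩)
    rw [h4, vz, card_sub_natAbs]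
  · obtain ⟨k, rfl⟩ : ∃ k, n = k + 1 := ⟨n - 1, by omega⟩
    have h0 : (Fintype.card F : ℤ) - 1 ≠ 0 := by
      have := Cfsg.Agent.H421.HT.pow_sub_one_ne hQ one_pos
      rwa [pow_one] at this
    have hk0 := Cfsg.Agent.H421.HT.pow_sub_one_ne hQ (show 0 < k by omega)
    refine hasDZ_of_goodL (by omega) hp hpq (mul_ne_zero hk0 h0) ?_
      (goodL_H (by omega) hp hpq (full_of_three hQ3 (by omega)))
    have h4 := vz_H hp ho hQ (n := k + 1) (by omega) (Or.inr ⟨h1', h2, by rw [vz, card_sub_natAbs]; exact h3⟩)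
    rw [Nat.add_sub_cancel] at h4
    rw [vz_mul hk0 h0, h4, add_comm, vz, card_sub_natAbs]

/-- **`PSL_n(q)` has a character of `p`-defect zero** for every prime `p ≥ 5` not dividing `q`. -/
theorem hasDZ_psl (hn : 2 ≤ n) (hn2 : n = 2 → 4 ≤ Fintype.card F) (hp : p.Prime) (h5 : 5 ≤ p)
    (hpq : ¬ p ∣ Fintype.card F) : HasDZ p (Matrix.ProjectiveSpecialLinearGroup (Fin n) F) := by
  have := Fact.mk hp
  obtain ⟨r, hr⟩ := CharP.exists F
  obtain ⟨f, hrp, hf⟩ := FiniteField.card F r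
  have := Fact.mk hrp
  have hpr : p ≠ r := by
    rintro rfl
    apply hpq
    rw [hf]
    exact dvd_pow_self p f.pos.ne'
  by_cases h2 : n = 2
  · subst h2
    exact Cfsg.Agent.H872.PV.hasDZ_two (hn2 rfl) hpr
  by_cases h1 : p ∣ Fintype.card F - 1
  · by_cases h3 : p ∣ n
    · exact hasDZ_both (h5.trans (Nat.le_of_dvd (by omega) h3)) hp h5 hpq h1 h3
    · exact Cfsg.Agent.H686.VO.PSL.hasDZ_of_dvd hpr hn h1 h3
  · exact Cfsg.Agent.H686.VO.PSL.hasDZ_of_not_dvd hpr (by omega) h1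

end Cfsg.Agent.R2.H1.DZ
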