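import Cfsg.Agent.R2.H1.DZ.UU
import Cfsg.Agent.H206.VanPSU.Arith
import Cfsg.Agent.H664.R1.U3Deg

/-!
# Characters of `p`-defect zero of `PSU_n(q)`, `p ≥ 5` prime to `q` (S4527)

* `hasDZ_psu` : **`HasDZ p (PSU n F q)`** for `n ≥ 3`, `(n, q) ≠ (3, 2)`, `p ≥ 5` prime to `q`.
-/

set_option autoImplicit false
set_option linter.unusedSectionVars false

open Cfsg
open scoped ComplexConjugate MatrixGroups

namespace Cfsg.Agent.R2.H1.DZ

open Cfsg.Agent.H665.NoPQ Cfsg.Agent.H113.PSU.Levi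

universe u

theorem natAbs_uu {q : ℕ} (hq : 1 ≤ q) (i : ℕ) : ((-(q : ℤ)) ^ i - 1).natAbs = uu q i := by
  have h := uu_cast hq i
  have h1 : (-(q : ℤ)) ^ i - 1 = (-1) ^ i * (uu q i : ℤ) := by
    rw [h, mul_sub, ← mul_pow, ← mul_pow]
    norm_num
  rw [h1, Int.natAbs_mul, Int.natAbs_pow, Int.natAbs_neg, Int.natAbs_one, one_pow, one_mul, Int.natAbs_natCast]

theorem PHz_ne {Q : ℤ} (hQ : 2 ≤ |Q|) (n : ℕ) : PHz Q n ≠ 0 :=
  Finset.prod_ne_zero_iff.2 fun i _ => Cfsg.Agent.H421.HT.pow_sub_one_ne hQ i.succ_pos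

theorem vz_unit {p : ℕ} (s : ℤˣ) (a : ℤ) : vz p ((s : ℤ) * a) = vz p a := by
  rw [vz, vz, Int.natAbs_mul, Int.natAbs_of_isUnit s.isUnit, one_mul]

variable {F : Type u} [Field F] [Fintype F] {q n p : ℕ}

/-- the order of `PSU_n(q)` -/
theorem vz_card (hF : Fintype.card F = q ^ 2) (hn : 2 ≤ n) (hp : p.Prime) (hpq : ¬ p ∣ q) :
    vz p (PHz (-(q : ℤ)) n) = (Nat.gcd n (q + 1)).factorization p + (q + 1).factorization p +
      (Nat.card (PSU n F q)).factorization p := by
  have hq : 2 ≤ q := two_le_q hF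
  have hfin : Finite (PSU n F q) := inferInstance
  have h1 := S0280.result hF n hn
  have h2 : ∏ i ∈ Finset.range n, (if Even i then q ^ (i + 1) + 1 else q ^ (i + 1) - 1) =
      (PHz (-(q : ℤ)) n).natAbs := by
    rw [PHz, ← Int.natAbsHom_apply, map_prod]
    refine Finset.prod_congr rfl fun i _ => ?_
    rw [Int.natAbsHom_apply, natAbs_uu (by omega), uu]
    by_cases h : Even i
    · rw [if_pos h, if_neg (by rw [Nat.even_add_one]; exact not_not.2 h)]
    · rw [if_neg h, if_pos (Nat.even_add_one.2 h)]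
  rw [h2] at h1
  have h3 := congrArg (fun m : ℕ => m.factorization p) h1
  have hQ : 2 ≤ |(-(q : ℤ))| := by rw [abs_neg, Nat.abs_cast]; exact_mod_cast hq
  have hg0 : Nat.gcd n (q + 1) ≠ 0 := Nat.gcd_ne_zero_right (by omega)
  have hp0 : (PHz (-(q : ℤ)) n).natAbs ≠ 0 := Int.natAbs_ne_zero.2 (PHz_ne hQ n)
  rw [Nat.factorization_mul hg0 (mul_ne_zero (by omega) Nat.card_pos.ne'),
    Nat.factorization_mul (by omega) Nat.card_pos.ne',
    Nat.factorization_mul (pow_ne_zero _ (by omega)) hp0] at h3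
  simp only [Finsupp.coe_add, Pi.add_apply] at h3
  rw [Nat.factorization_eq_zero_of_not_dvd (fun h => hpq (hp.dvd_of_dvd_pow h)), zero_add] at h3
  rw [vz, ← h3, add_assoc]

/-- defect zero from a good character -/
theorem hasDZ_of_goodU (hF : Fintype.card F = q ^ 2) (hn : 3 ≤ n) (hp : p.Prime) (hpq : ¬ p ∣ q) {D : ℤ}
    (hD0 : D ≠ 0) (hD : vz p D = (q + 1).factorization p + (Nat.gcd n (q + 1)).factorization p)
    (h : GoodU F q n p D) : HasDZ p (PSU n F q) := by
  obtain ⟨η, r, hr, u, hu⟩ := exists_psu hF hn hp h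
  have hq : 2 ≤ q := two_le_q hF
  have hQ : 2 ≤ |(-(q : ℤ))| := by rw [abs_neg, Nat.abs_cast]; exact_mod_cast hq
  refine ⟨η, ?_⟩
  have h1 := congrArg (vz p) hu
  have hd0 : charDegree (η : PSU n F q → ℂ) ≠ 0 := (Cfsg.Agent.Blocks.Basic.charDegree_pos η.2).ne'
  have hr0 : r ≠ 0 := by
    rintro rfl
    exact hr (dvd_zero p)
  rw [vz_unit, vz_mul (by exact_mod_cast mul_ne_zero hd0 hr0) hD0, hD, vz_card hF (by omega) hp hpq] at h1
  have h2 : vz p ((charDegree (η : PSU n F q → ℂ) * r : ℕ) : ℤ) = (charDegree (η : PSU n F q → ℂ)).factorization p := by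
    rw [vz, Int.natAbs_natCast, Nat.factorization_mul hd0 hr0, Finsupp.add_apply,
      Nat.factorization_eq_zero_of_not_dvd hr, add_zero]
  rw [h2] at h1
  omega

theorem Qsub_natAbs (q : ℕ) : (-(q : ℤ) - 1).natAbs = q + 1 := by omega

/-- `T_n` -/
theorem hasDZ_T (hF : Fintype.card F = q ^ 2) (hn : 3 ≤ n) (hp : p.Prime) (ho : Odd p) (hpq : ¬ p ∣ q)
    (hf : Full (-(q : ℤ)) n) (hcase : ¬ p ∣ n ∨ ¬ p ∣ q + 1 ∨ (5 ≤ n ∧ 4 ≤ q))
    (h : ¬ p ∣ uu q n ∨ (p ∣ q + 1 ∧ n.factorization p ≤ (q + 1).factorization p)) : HasDZ p (PSU n F q) := by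
  have hq : 2 ≤ q := two_le_q hF
  have hQ : 2 ≤ |(-(q : ℤ))| := by rw [abs_neg, Nat.abs_cast]; exact_mod_cast hq
  refine hasDZ_of_goodU hF hn hp hpq (Cfsg.Agent.H421.HT.pow_sub_one_ne hQ (by omega)) ?_
    (goodU_T hF (by omega) hp hpq hf hcase)
  have h1 := vz_T hp ho hQ (n := n) (by omega) (by
    rw [← Int.natCast_dvd_natCast] at h
    refine h.imp (fun h1 h2 => h1 ?_) fun ⟨h1, h2⟩ => ⟨?_, ?_⟩
    · rw [← natAbs_uu (by omega), Int.dvd_natAbs]
      exact h2
    · rw [← Int.dvd_natAbs, Qsub_natAbs]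
      exact_mod_cast h1
    · rw [vz, Qsub_natAbs]
      exact h2)
  rw [h1, vz, Qsub_natAbs]

/-- `T_{n-1} × T_1` -/
theorem hasDZ_H (hF : Fintype.card F = q ^ 2) (hn : 3 ≤ n) (hp : p.Prime) (ho : Odd p) (hpq : ¬ p ∣ q)
    (hf : Full (-(q : ℤ)) (n - 1))
    (h : ¬ p ∣ uu q (n - 1) ∨ (p ∣ q + 1 ∧ p ∣ n ∧ (q + 1).factorization p ≤ n.factorization p)) :
    HasDZ p (PSU n F q) := by
  obtain ⟨k, rfl⟩ : ∃ k, n = k + 1 := ⟨n - 1, by omega⟩
  rw [Nat.add_sub_cancel] at hf h
  have hq : 2 ≤ q := two_le_q hF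
  have hQ : 2 ≤ |(-(q : ℤ))| := by rw [abs_neg, Nat.abs_cast]; exact_mod_cast hq
  have h0 : -(q : ℤ) - 1 ≠ 0 := by
    have := Cfsg.Agent.H421.HT.pow_sub_one_ne hQ one_pos
    rwa [pow_one] at this
  have hk0 := Cfsg.Agent.H421.HT.pow_sub_one_ne hQ (show 0 < k by omega)
  refine hasDZ_of_goodU hF hn hp hpq (mul_ne_zero hk0 h0) ?_ (goodU_H hF (by omega) hp hpq hf)
  have h1 := vz_H hp ho hQ (n := k + 1) (by omega) (by
    rw [Nat.add_sub_cancel]
    rw [← Int.natCast_dvd_natCast] at h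
    refine h.imp (fun h1 h2 => h1 ?_) fun ⟨h1, h2, h3⟩ => ⟨?_, h2, ?_⟩
    · rw [← natAbs_uu (by omega), Int.dvd_natAbs]
      exact h2
    · rw [← Int.dvd_natAbs, Qsub_natAbs]
      exact_mod_cast h1
    · rw [vz, Qsub_natAbs]
      exact h3)
  rw [Nat.add_sub_cancel] at h1
  rw [vz_mul hk0 h0, h1, add_comm, vz, Qsub_natAbs]

theorem full_neg {q k : ℕ} (hk : 4 ≤ k) (hq : 2 ≤ q) : Full (-(q : ℤ)) k := by
  rcases Nat.lt_or_ge q 3 with h | h
  · have h2 : q = 2 := by omega
    subst h2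
    rcases Nat.lt_or_ge k 5 with h5 | h5
    · have h4 : k = 4 := by omega
      subst h4
      exact full_neg_two_four
    · exact full_of_five (by norm_num) h5
  · exact full_of_three (by rw [abs_neg, Nat.abs_cast]; exact_mod_cast h) (by omega)

/-- `n = q = 3` -/
theorem hasDZ_three_three {F : Type u} [Field F] [Fintype F] (hF : Fintype.card F = 3 ^ 2) (hp : p.Prime) (h5 : 5 ≤ p) :
    HasDZ p (PSU 3 F 3) := by
  have := Fact.mk hp
  have h1 := S0280.result hF 3 (by omega)
  have h2 : Nat.card (PSU 3 F 3) = 6048 := by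
    have e1 : Nat.gcd 3 (3 + 1) = 1 := by decide
    have e2 : 3 ^ (3 * (3 - 1) / 2) * ∏ i ∈ Finset.range 3, (if Even i then 3 ^ (i + 1) + 1 else 3 ^ (i + 1) - 1) =
        24192 := by decide
    rw [e1, e2] at h1
    omega
  by_cases h7 : p = 7
  · subst h7
    obtain ⟨hD, -⟩ := H664.R1.U3.degrees_red hF le_rfl (MulEquiv.refl (PSU 3 F 3))
    obtain ⟨χ, hχ, h3⟩ := H681.DegBasic.mem_charDegrees.1 hD
    refine H720.PV.hasDZ_of_degree hχ h3 ?_
    have h4 : (Nat.card (PSU 3 F 3)).factorization 7 ≤ 1 := by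
      by_contra hcon
      have h6 : 7 ^ 2 ∣ Nat.card (PSU 3 F 3) :=
        ((Nat.Prime.pow_dvd_iff_le_factorization (by norm_num) Nat.card_pos.ne').2 (by omega))
      rw [h2] at h6
      revert h6
      decide
    exact (pow_dvd_pow 7 h4).trans (by norm_num)
  · refine hasDZ_of_not_dvd fun hd => ?_
    rw [h2] at hd
    have e : 6048 = 2 ^ 5 * (3 ^ 3 * 7) := by norm_num
    rw [e] at hd
    rcases (Nat.Prime.dvd_mul hp).1 hd with h | h
    · have := Nat.le_of_dvd (by norm_num) (hp.dvd_of_dvd_pow h)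
      omega
    · rcases (Nat.Prime.dvd_mul hp).1 h with h | h
      · have := Nat.le_of_dvd (by norm_num) (hp.dvd_of_dvd_pow h)
        omega
      · exact h7 ((Nat.prime_dvd_prime_iff_eq hp (by norm_num)).1 h)

theorem uu_one (q : ℕ) : uu q 1 = q + 1 := by
  unfold uu
  norm_num

theorem not_dvd_pred (hp : p.Prime) (hq : 2 ≤ q) (h1 : ¬ p ∣ q + 1) (hn : 1 ≤ n) (h : p ∣ uu q n) :
    ¬ p ∣ uu q (n - 1) := by
  have := Fact.mk hp
  intro h2
  rw [Cfsg.Agent.H206.VanPSU.dvd_uu_iff (by omega)] at h h2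
  have h3 := Nat.dvd_sub h h2
  rw [show n - (n - 1) = 1 by omega] at h3
  exact h1 ((Cfsg.Agent.H206.VanPSU.ee_eq_one_iff (by omega)).1 (Nat.dvd_one.1 h3))

/-- **`PSU_n(q)` has a character of `p`-defect zero** for every prime `p ≥ 5` not dividing `q`. -/
theorem hasDZ_psu {F : Type} [Field F] [Fintype F] (hF : Fintype.card F = q ^ 2) (hn : 3 ≤ n)
    (h32 : ¬ (n = 3 ∧ q = 2)) (hp : p.Prime) (h5 : 5 ≤ p) (hpq : ¬ p ∣ q) : HasDZ p (PSU n F q) := by
  have := Fact.mk hp
  have hq : 2 ≤ q := two_le_q hF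
  have ho : Odd p := hp.odd_of_ne_two (by omega)
  have h3Q : 3 ≤ q → 3 ≤ |(-(q : ℤ))| := fun h => by rw [abs_neg, Nat.abs_cast]; exact_mod_cast h
  by_cases h1 : p ∣ q + 1
  · have hq4 : 4 ≤ q := by
      have := Nat.le_of_dvd (by omega) h1
      omega
    by_cases h2 : p ∣ n
    · have hn5 : 5 ≤ n := h5.trans (Nat.le_of_dvd (by omega) h2)
      rcases le_total (n.factorization p) ((q + 1).factorization p) with h3 | h3
      · exact hasDZ_T hF hn hp ho hpq (full_of_three (h3Q (by omega)) hn) (Or.inr (Or.inr ⟨hn5, hq4⟩)) (Or.inr ⟨h1, h3⟩)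
      · exact hasDZ_H hF hn hp ho hpq (full_of_three (h3Q (by omega)) (by omega)) (Or.inr ⟨h1, h2, h3⟩)
    · exact hasDZ_T hF hn hp ho hpq (full_of_three (h3Q (by omega)) hn) (Or.inl h2)
        (Or.inr ⟨h1, by rw [Nat.factorization_eq_zero_of_not_dvd h2]; exact Nat.zero_le _⟩)
  · by_cases h2 : p ∣ uu q n
    · have h3 := not_dvd_pred hp hq h1 (by omega) h2
      rcases Nat.lt_or_ge n 5 with hn5 | hn5
      · have hn34 : n = 3 ∨ n = 4 := by omega
        rcases hn34 with rfl | rfl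
        · rcases Nat.lt_or_ge q 4 with hq4 | hq4
          · have hq3 : q = 3 := by
              by_contra hne
              exact h32 ⟨rfl, by omega⟩
            subst hq3
            exact hasDZ_three_three hF hp h5
          · exact hasDZ_H hF hn hp ho hpq (full_two hq4) (Or.inl h3)
        · rcases Nat.lt_or_ge q 3 with hq3 | hq3
          · have hq2 : q = 2 := by omega
            subst hq2
            have hp5 : p = 5 := by
              have e : uu 2 4 = 3 * 5 := by
                unfold uu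
                rw [if_pos (by decide)]
                norm_num
              rw [e] at h2
              rcases (Nat.Prime.dvd_mul hp).1 h2 with h | h
              · have := Nat.le_of_dvd (by norm_num) h
                omega
              · exact (Nat.prime_dvd_prime_iff_eq hp (by norm_num)).1 h
            subst hp5
            have he := (Cfsg.Agent.H206.VanPSU.dvd_uu_iff (l := 5) (q := 2) (by omega) 4).1 h2
            have he2 : ¬ Cfsg.Agent.H206.VanPSU.ee 2 5 ∣ 2 := by
              intro h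
              have h4 := (Cfsg.Agent.H206.VanPSU.dvd_uu_iff (l := 5) (q := 2) (by omega) 2).2 h
              have e : uu 2 2 = 3 := by
                unfold uu
                rw [if_pos (by decide)]
                norm_num
              rw [e] at h4
              revert h4
              decide
            have he4 : Cfsg.Agent.H206.VanPSU.ee 2 5 = 4 := by
              have h6 : Cfsg.Agent.H206.VanPSU.ee 2 5 ∣ 2 ^ 2 := he
              obtain ⟨k, hk, hk'⟩ := (Nat.dvd_prime_pow Nat.prime_two).1 h6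
              interval_cases k
              · exfalso
                apply he2
                rw [hk']
                decide
              · exfalso
                apply he2
                rw [hk']
                decide
              · rw [hk']
                norm_num
            exact Cfsg.Agent.H206.VanPSU.hasDZ_large hF le_rfl hpq (Or.inl he4)
          · exact hasDZ_H hF hn hp ho hpq (full_of_three (h3Q hq3) (by omega)) (Or.inl h3)
      · exact hasDZ_H hF hn hp ho hpq (full_neg (by omega) hq) (Or.inl h3)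
    · refine hasDZ_T hF hn hp ho hpq ?_ (Or.inr (Or.inl h1)) (Or.inl h2)
      rcases Nat.lt_or_ge n 4 with hn4 | hn4
      · have hn3 : n = 3 := by omega
        subst hn3
        refine full_of_three (h3Q ?_) le_rfl
        by_contra hne
        exact h32 ⟨rfl, by omega⟩
      · exact full_neg hn4 hq

end Cfsg.Agent.R2.H1.DZ
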