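import Cfsg.Agent.H421.HT.Num
import Cfsg.Agent.H614.GLn.RSForm
import Cfsg.Agent.H615.GU.Loc

/-!
# Regular labels with trivial central character (S4527, PSL / PSU)

* `Phi Q n = (Q^n - 1)/(Q - 1)`; `Full Q n` : `Phi Q n ∣ Q^j - 1 → n ∣ j`;
* `exists_lab` : a label of level `n`, full period and trivial central character;
* `eq_zero_of_same` : it is not fixed by a translation of order `p`;
* `vz_T`, `vz_H` : valuations.
-/

set_option autoImplicit false

open scoped ComplexConjugate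

namespace Cfsg.Agent.R2.H1.DZ

open Cfsg.Agent.H577.GLB.Std Cfsg.Agent.H614.GLn.RSt Cfsg.Agent.H615.GU
open Cfsg.Agent.H421.HT (fac_mul pow_sub_one_ne dvd_iff fac_pow)

/-- `(Q^n - 1)/(Q - 1)` -/
def Phi (Q : ℤ) (n : ℕ) : ℤ := ∑ i ∈ Finset.range n, Q ^ i

theorem Phi_mul (Q : ℤ) (n : ℕ) : Phi Q n * (Q - 1) = Q ^ n - 1 := geom_sum_mul Q n

theorem Phi_dvd (Q : ℤ) (n : ℕ) : Phi Q n ∣ Q ^ n - 1 := ⟨Q - 1, (Phi_mul Q n).symm⟩

/-- `Phi Q n` is not a divisor of `Q^j - 1`, `0 < j < n` -/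
def Full (Q : ℤ) (n : ℕ) : Prop := ∀ j : ℕ, Phi Q n ∣ Q ^ j - 1 → n ∣ j

section bounds

variable {Q : ℤ} {n : ℕ}

theorem le_abs_pow_sub (Q : ℤ) (n : ℕ) : |Q| ^ n - 1 ≤ |Q ^ n - 1| := by
  have h := abs_sub_abs_le_abs_sub (Q ^ n) 1
  rwa [abs_pow, abs_one] at h

theorem abs_pow_sub_le (Q : ℤ) (n : ℕ) : |Q ^ n - 1| ≤ |Q| ^ n + 1 := by
  have h := abs_sub (Q ^ n) 1
  rwa [abs_pow, abs_one] at h

/-- divisibility and greatest common divisors -/
theorem dvd_pow_gcd {D : ℤ} {a b : ℕ} (h1 : D ∣ Q ^ a - 1) (h2 : D ∣ Q ^ b - 1) : D ∣ Q ^ Nat.gcd a b - 1 := by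
  have key : ∀ k : ℕ, D ∣ Q ^ k - 1 ↔ orderOf (Q : ZMod D.natAbs) ∣ k := by
    intro k
    rw [← Int.natAbs_dvd]
    exact dvd_iff k
  rw [key] at h1 h2 ⊢
  exact Nat.dvd_gcd h1 h2

/-- the main bound -/
theorem full_aux {D : ℤ} {c : ℤ} (hQ : 2 ≤ |Q|) (hn : 0 < n) (hD : D ∣ Q ^ n - 1)
    (hc : |Phi Q n| ≤ c * |D|) (hc0 : 0 ≤ c)
    (hb : ∀ g, 0 < g → 2 * g ≤ n → c * ((|Q| ^ g + 1) * (|Q| + 1)) < |Q| ^ n - 1) {j : ℕ} (hj : D ∣ Q ^ j - 1) :
    n ∣ j := by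
  have h1 := dvd_pow_gcd hD hj
  have hg0 : 0 < Nat.gcd n j := Nat.gcd_pos_of_pos_left j hn
  obtain ⟨k, hk⟩ := Nat.gcd_dvd_left n j
  have hk0 : k ≠ 0 := by
    rintro rfl
    omega
  by_cases hk1 : k = 1
  · rw [hk1, mul_one] at hk
    rw [hk]
    exact Nat.gcd_dvd_right n j
  · exfalso
    have h2 : 2 * Nat.gcd n j ≤ n := by
      conv_rhs => rw [hk]
      rw [mul_comm]
      exact Nat.mul_le_mul_left _ (by omega)
    have h3 := hb _ hg0 h2
    have h4 : Q ^ Nat.gcd n j - 1 ≠ 0 := pow_sub_one_ne hQ hg0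
    have h5 : |D| ≤ |Q ^ Nat.gcd n j - 1| := by
      obtain ⟨z, hz⟩ := h1
      rw [hz, abs_mul]
      have hz0 : z ≠ 0 := by
        rintro rfl
        rw [mul_zero] at hz
        exact h4 hz
      have : 1 ≤ |z| := Int.one_le_abs hz0
      nlinarith [abs_nonneg D]
    have h6 := abs_pow_sub_le Q (Nat.gcd n j)
    have h7 := le_abs_pow_sub Q n
    have h8 : |Q ^ n - 1| = |Phi Q n| * |Q - 1| := by rw [← Phi_mul, abs_mul]
    have h9 : |Q - 1| ≤ |Q| + 1 := by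
      have := abs_pow_sub_le Q 1
      rwa [pow_one, pow_one] at this
    have h10 : |Phi Q n| ≤ c * (|Q| ^ Nat.gcd n j + 1) :=
      hc.trans (mul_le_mul_of_nonneg_left (h5.trans h6) hc0)
    have h11 : |Phi Q n| * |Q - 1| ≤ c * (|Q| ^ Nat.gcd n j + 1) * (|Q| + 1) :=
      mul_le_mul h10 h9 (abs_nonneg _) (mul_nonneg hc0 (by positivity))
    rw [mul_assoc] at h11
    linarith

theorem bound_two {b : ℤ} (hb : 2 ≤ b) {n g : ℕ} (hn : 5 ≤ n) (_hg : 0 < g) (hg2 : 2 * g ≤ n) :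
    1 * ((b ^ g + 1) * (b + 1)) < b ^ n - 1 := by
  rcases Nat.lt_or_ge g 3 with h | h
  · have h1 : b ^ g ≤ b ^ 2 := pow_le_pow_right₀ (by linarith) (by omega)
    have h2 : b ^ 5 ≤ b ^ n := pow_le_pow_right₀ (by linarith) hn
    have h3 : (b ^ g + 1) * (b + 1) ≤ (b ^ 2 + 1) * (b + 1) := mul_le_mul_of_nonneg_right (by linarith) (by linarith)
    have h4 : (b ^ 2 + 1) * (b + 1) < b ^ 5 - 1 := by nlinarith [mul_pos (show (0 : ℤ) < b by linarith) (show (0 : ℤ) < b by linarith), pow_pos (show (0 : ℤ) < b by linarith) 3, pow_pos (show (0 : ℤ) < b by linarith) 4]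
    linarith
  · have h1 : b ^ (2 * g) ≤ b ^ n := pow_le_pow_right₀ (by linarith) hg2
    have h2 : b ^ 3 ≤ b ^ g := pow_le_pow_right₀ (by linarith) h
    have h3 : b ^ (2 * g) = b ^ g * b ^ g := by rw [two_mul, pow_add]
    have h4 : b + 1 < b ^ 3 - 1 := by nlinarith [mul_pos (show (0 : ℤ) < b by linarith) (show (0 : ℤ) < b by linarith)]
    have h5 : 0 < b ^ g + 1 := by positivity
    nlinarith

theorem full_of_five (hQ : 2 ≤ |Q|) (hn : 5 ≤ n) : Full Q n := by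
  intro j hj
  exact full_aux (c := 1) hQ (by omega) (Phi_dvd Q n) (by rw [one_mul]) zero_le_one
    (fun g hg hg2 => bound_two hQ hn hg hg2) hj

theorem full_of_three (hQ : 3 ≤ |Q|) (hn : 3 ≤ n) : Full Q n := by
  rcases Nat.lt_or_ge n 5 with h | h
  · intro j hj
    refine full_aux (c := 1) (by linarith) (by omega) (Phi_dvd Q n) (by rw [one_mul]) zero_le_one
      (fun g hg hg2 => ?_) hj
    rw [one_mul]
    obtain ⟨b, hb⟩ : ∃ b, b = |Q| := ⟨_, rfl⟩
    rw [← hb] at hQ ⊢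
    interval_cases n
    · have hg1 : g = 1 := by omega
      subst hg1
      rw [pow_one]
      nlinarith [mul_pos (show (0 : ℤ) < b by linarith) (show (0 : ℤ) < b by linarith)]
    · have hg1 : g = 1 ∨ g = 2 := by omega
      rcases hg1 with rfl | rfl
      · rw [pow_one]
        nlinarith [mul_pos (show (0 : ℤ) < b by linarith) (show (0 : ℤ) < b by linarith), pow_pos (show (0 : ℤ) < b by linarith) 3]
      · nlinarith [mul_pos (show (0 : ℤ) < b by linarith) (show (0 : ℤ) < b by linarith), pow_pos (show (0 : ℤ) < b by linarith) 3]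
  · exact full_of_five (by linarith) h

theorem full_neg_two_four : Full (-2) 4 := by
  intro j hj
  have h1 : Phi (-2) 4 = -5 := by decide
  rw [h1, neg_dvd] at hj
  have h2 := (dvd_iff (p := 5) (Q := -2) j).1 (by exact_mod_cast hj)
  have h3 : orderOf ((-2 : ℤ) : ZMod 5) = 4 := by
    have h4 : ((-2 : ℤ) : ZMod 5) = 3 := by decide
    rw [h4]
    exact orderOf_eq_prime_pow (p := 2) (n := 1) (by decide) (by decide)
  rwa [h3] at h2

/-- the torus of rank two -/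
theorem full_two {q : ℕ} (hq : 4 ≤ q) : Full (-(q : ℤ)) 2 := by
  intro j hj
  have h1 : Phi (-(q : ℤ)) 2 = -((q : ℤ) - 1) := by
    simp only [Phi, Finset.sum_range_succ, Finset.range_zero, Finset.sum_empty, pow_zero, pow_one]
    ring
  rw [h1, neg_dvd] at hj
  have h2 : ((q : ℤ) - 1) ∣ (-(q : ℤ)) ^ 2 - 1 := ⟨q + 1, by ring⟩
  have h3 := dvd_pow_gcd h2 hj
  rcases (Nat.dvd_prime Nat.prime_two).1 (Nat.gcd_dvd_left 2 j) with h | h
  · exfalso
    rw [h, pow_one] at h3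
    have h4 : ((q : ℤ) - 1) ∣ 2 := by
      have h5 : (-(q : ℤ) - 1) + ((q : ℤ) - 1) * 1 = -2 := by ring
      have h6 : ((q : ℤ) - 1) ∣ -2 := by
        rw [← h5]
        exact dvd_add h3 (dvd_mul_right _ _)
      rwa [dvd_neg] at h6
    have h5 := Int.le_of_dvd (by norm_num) h4
    have : (4 : ℤ) ≤ q := by exact_mod_cast hq
    linarith
  · rw [← h]
    exact Nat.gcd_dvd_right 2 j

/-- the bound for translations of order `p` -/
theorem bound_p {b : ℤ} (hb : 4 ≤ b) {c : ℤ} (_hc0 : 0 ≤ c) (hc : c ≤ b + 1) {n g : ℕ} (hn : 5 ≤ n) (_hg : 0 < g)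
    (hg2 : 2 * g ≤ n) : c * ((b ^ g + 1) * (b + 1)) < b ^ n - 1 := by
  have h0 : c * ((b ^ g + 1) * (b + 1)) ≤ (b + 1) * ((b ^ g + 1) * (b + 1)) :=
    mul_le_mul_of_nonneg_right hc (by positivity)
  refine h0.trans_lt ?_
  rcases Nat.lt_or_ge g 3 with h | h
  · have h1 : b ^ g ≤ b ^ 2 := pow_le_pow_right₀ (by linarith) (by omega)
    have h2 : b ^ 5 ≤ b ^ n := pow_le_pow_right₀ (by linarith) hn
    have h3 : (b ^ g + 1) * (b + 1) ≤ (b ^ 2 + 1) * (b + 1) := mul_le_mul_of_nonneg_right (by linarith) (by linarith)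
    have h3' : (b + 1) * ((b ^ g + 1) * (b + 1)) ≤ (b + 1) * ((b ^ 2 + 1) * (b + 1)) :=
      mul_le_mul_of_nonneg_left h3 (by linarith)
    have h5 : 4 * b ^ 4 ≤ b ^ 5 := by
      rw [pow_succ b 4, mul_comm]
      exact mul_le_mul_of_nonneg_left hb (by positivity)
    have h6 : 4 * b ^ 3 ≤ b ^ 4 := by
      rw [pow_succ b 3, mul_comm]
      exact mul_le_mul_of_nonneg_left hb (by positivity)
    have h7 : 4 * b ^ 2 ≤ b ^ 3 := by
      rw [pow_succ b 2, mul_comm]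
      exact mul_le_mul_of_nonneg_left hb (by positivity)
    have h8 : 4 * b ≤ b ^ 2 := by
      rw [pow_two]
      exact mul_le_mul_of_nonneg_right hb (by linarith)
    nlinarith
  · have h1 : b ^ (2 * g) ≤ b ^ n := pow_le_pow_right₀ (by linarith) hg2
    have h2 : b ^ 3 ≤ b ^ g := pow_le_pow_right₀ (by linarith) h
    have h3 : b ^ (2 * g) = b ^ g * b ^ g := by rw [two_mul, pow_add]
    have h7 : 4 * b ^ 2 ≤ b ^ 3 := by
      rw [pow_succ b 2, mul_comm]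
      exact mul_le_mul_of_nonneg_left hb (by positivity)
    have h8 : 4 * b ≤ b ^ 2 := by
      rw [pow_two]
      exact mul_le_mul_of_nonneg_right hb (by linarith)
    have h4 : (b + 1) * (b + 1) < b ^ 3 - 1 := by nlinarith
    have h5 : 0 < b ^ g + 1 := by positivity
    nlinarith

end bounds

section lab

variable {K : Type*} [Field K] {θ : K →*₀ ℂ} {Q : ℤ} {M : ℕ} [NeZero M] {N n : ℕ}

/-- a label of level `n`, full period and trivial central character -/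
theorem exists_lab (ctx : CtxQ θ Q M N) (hn0 : 0 < n) (hn : n ≤ N) (hf : Full Q n) :
    ∃ c : ZMod M, perZ Q M c = n ∧ ∀ k : ℤ, (k : ZMod M) * c = 0 ↔ Phi Q n ∣ k := by
  have h1 : Phi Q n ∣ (M : ℤ) := (Phi_dvd Q n).trans (ctx.dvd n hn0 hn)
  obtain ⟨M', hM'⟩ := h1
  have hM0 : (M : ℤ) ≠ 0 := by exact_mod_cast NeZero.ne M
  have hM'0 : M' ≠ 0 := by
    rintro rfl
    rw [mul_zero] at hM'
    exact hM0 hM'
  have key : ∀ k : ℤ, (k : ZMod M) * (M' : ZMod M) = 0 ↔ Phi Q n ∣ k := by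
    intro k
    rw [← Int.cast_mul, ZMod.intCast_zmod_eq_zero_iff_dvd, hM']
    constructor
    · rintro ⟨z, hz⟩
      refine ⟨z, mul_right_cancel₀ hM'0 ?_⟩
      rw [hz]; ring
    · rintro ⟨z, rfl⟩
      exact ⟨z, by ring⟩
  refine ⟨(M' : ZMod M), ?_, key⟩
  have h2 : ∀ j : ℕ, perZ Q M (M' : ZMod M) ∣ j ↔ n ∣ j := by
    intro j
    rw [← torZ_iff, TorZ]
    have h3 : ((Q : ZMod M) ^ j - 1) = ((Q ^ j - 1 : ℤ) : ZMod M) := by push_cast; rfl
    rw [h3, key]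
    constructor
    · exact fun h => hf j h
    · rintro ⟨i, rfl⟩
      refine (Phi_dvd Q n).trans ?_
      rw [pow_mul]
      exact sub_one_dvd_pow_sub_one _ _
  exact Nat.dvd_antisymm ((h2 n).2 dvd_rfl) ((h2 _).1 dvd_rfl)

/-- a canonical one -/
theorem exists_lab' (ctx : CtxQ θ Q M N) (hn0 : 0 < n) (hn : n ≤ N) (hf : Full Q n) :
    ∃ c : ZMod M, canon Q M c = c ∧ perZ Q M c = n ∧ ∀ k : ℤ, (k : ZMod M) * c = 0 ↔ Phi Q n ∣ k := by
  obtain ⟨c, h1, h2⟩ := exists_lab ctx hn0 hn hf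
  have hs := sameZ_canon (Q := Q) (M := M) c
  refine ⟨canon Q M c, (canon_eq_of_same ctx.unit hs).symm, ?_, fun k => ?_⟩
  · rw [← perZ_of_same ctx.unit hs, h1]
  · obtain ⟨j, hj⟩ := hs
    rw [hj, mul_left_comm, (ctx.unit.pow j).mul_right_eq_zero, h2]

/-- the label is not fixed by a translation of order `p` -/
theorem eq_zero_of_same {p : ℕ} (hp : p.Prime) (hQ : 2 ≤ |Q|) (hn0 : 0 < n) {c : ZMod M} (hc : perZ Q M c = n)
    (hk : ∀ k : ℤ, (k : ZMod M) * c = 0 ↔ Phi Q n ∣ k) {a : ZMod M} (ha : TorZ Q M 1 a) (hpa : p • a = 0)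
    (hs : SameZ Q M c (c + a)) (hcase : ¬ p ∣ n ∨ ¬ (p : ℤ) ∣ Q - 1 ∨ (5 ≤ n ∧ 4 ≤ |Q|)) : a = 0 := by
  obtain ⟨j, hj⟩ := hs
  have ha1 : (Q : ZMod M) * a = a := by
    rw [TorZ, pow_one, sub_mul, one_mul, sub_eq_zero] at ha
    exact ha
  by_cases hpQ : (p : ℤ) ∣ Q - 1
  swap
  · by_contra ha0
    have ho : addOrderOf a = p := by
      have := Fact.mk hp
      exact addOrderOf_eq_prime hpa ha0
    apply hpQ
    rw [← ho, addOrderOf_dvd_iff_zsmul_eq_zero, sub_smul, one_smul, zsmul_eq_mul, ha1, sub_self]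
  -- `n ∣ j` is enough
  suffices h : n ∣ j by
    rw [← hc, ← pow_mul_eq_iff] at h
    rw [h] at hj
    exact left_eq_add.1 hj.symm
  rcases hcase with h | h | ⟨h5, h4⟩
  · have h1 : ∀ i : ℕ, ((Q : ZMod M) ^ j) ^ i * c = c + i • a := by
      intro i
      induction i with
      | zero => rw [pow_zero, one_mul, zero_smul, add_zero]
      | succ i ih =>
        have ha2 : (Q : ZMod M) ^ j * a = a := by
          have : ∀ i : ℕ, (Q : ZMod M) ^ i * a = a := by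
            intro i
            induction i with
            | zero => rw [pow_zero, one_mul]
            | succ i ih => rw [pow_succ, mul_assoc, ha1, ih]
          exact this j
        rw [pow_succ', mul_assoc, ih, mul_add, ← hj, mul_smul_comm, ha2, succ_nsmul]
        abel
    have h2 := h1 p
    rw [hpa, add_zero, ← pow_mul, pow_mul_eq_iff, hc] at h2
    exact (Nat.Coprime.dvd_of_dvd_mul_right ((Nat.Prime.coprime_iff_not_dvd hp).2 h).symm h2)
  · exact absurd hpQ h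
  · -- sizes
    have h1 : Phi Q n ∣ p * (Q ^ j - 1) := by
      rw [← hk]
      push_cast
      rw [mul_assoc, sub_mul, one_mul, ← hj, add_sub_cancel_left, ← nsmul_eq_mul, hpa]
    obtain ⟨D, hD1, hD2, hD3⟩ : ∃ D : ℤ, D ∣ Q ^ n - 1 ∧ |Phi Q n| ≤ p * |D| ∧ D ∣ Q ^ j - 1 := by
      by_cases hpP : (p : ℤ) ∣ Phi Q n
      · obtain ⟨D, hD⟩ := hpP
        have hp0 : (p : ℤ) ≠ 0 := by exact_mod_cast hp.ne_zero
        refine ⟨D, (Dvd.intro_left _ hD.symm).trans (Phi_dvd Q n), ?_, ?_⟩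
        · rw [hD, abs_mul, Nat.abs_cast]
        · rw [hD] at h1
          exact (mul_dvd_mul_iff_left hp0).1 h1
      · refine ⟨Phi Q n, Phi_dvd Q n, ?_, ?_⟩
        · have : (1 : ℤ) ≤ p := by exact_mod_cast hp.one_lt.le
          nlinarith [abs_nonneg (Phi Q n)]
        · have h2 : IsCoprime (Phi Q n) (p : ℤ) :=
            ((Prime.coprime_iff_not_dvd (Nat.prime_iff_prime_int.1 hp)).2 hpP).symm
          exact h2.dvd_of_dvd_mul_left h1
    refine full_aux (c := p) hQ hn0 hD1 hD2 (by positivity) (fun g hg hg2 => ?_) hD3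
    refine bound_p h4 (by positivity) ?_ h5 hg hg2
    have h6 : Q - 1 ≠ 0 := by
      have := pow_sub_one_ne hQ one_pos
      rwa [pow_one] at this
    have h7 : (p : ℤ) ≤ |Q - 1| := Int.le_of_dvd (abs_pos.2 h6) ((dvd_abs _ _).2 hpQ)
    have h8 := abs_pow_sub_le Q 1
    rw [pow_one, pow_one] at h8
    exact h7.trans h8

end lab

section val

variable {p : ℕ} {Q : ℤ}

/-- the valuation -/
noncomputable def vz (p : ℕ) (z : ℤ) : ℕ := z.natAbs.factorization p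

theorem vz_mul {a b : ℤ} (ha : a ≠ 0) (hb : b ≠ 0) : vz p (a * b) = vz p a + vz p b := fac_mul ha hb

theorem vz_zero_of_not_dvd {a : ℤ} (h : ¬ (p : ℤ) ∣ a) : vz p a = 0 := by
  refine Nat.factorization_eq_zero_of_not_dvd fun h1 => h ?_
  exact Int.natCast_dvd.2 h1

theorem gcd_fac {n : ℕ} (hn : n ≠ 0) {z : ℤ} (hz : z ≠ 0) :
    (Nat.gcd n z.natAbs).factorization p = min (n.factorization p) (vz p z) := by
  rw [Nat.factorization_gcd hn (Int.natAbs_ne_zero.2 hz)]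
  rfl

/-- the valuations for the torus `T_n` -/
theorem vz_T (hp : p.Prime) (ho : Odd p) (hQ : 2 ≤ |Q|) {n : ℕ} (hn : 0 < n)
    (h : ¬ (p : ℤ) ∣ Q ^ n - 1 ∨ ((p : ℤ) ∣ Q - 1 ∧ n.factorization p ≤ vz p (Q - 1))) :
    vz p (Q ^ n - 1) = vz p (Q - 1) + (Nat.gcd n (Q - 1).natAbs).factorization p := by
  have h1 : Q - 1 ≠ 0 := by
    have := pow_sub_one_ne hQ one_pos
    rwa [pow_one] at this
  rw [gcd_fac hn.ne' h1]
  rcases h with h | ⟨h, h'⟩
  · have h2 : ¬ (p : ℤ) ∣ Q - 1 := fun h3 => h (h3.trans (sub_one_dvd_pow_sub_one Q n))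
    rw [vz_zero_of_not_dvd h, vz_zero_of_not_dvd h2, Nat.min_zero]
  · rw [min_eq_left h']
    exact fac_pow hp ho h h1 hn (pow_sub_one_ne hQ hn)

/-- the valuations for the torus `T_{n-1} × T_1` -/
theorem vz_H (hp : p.Prime) (ho : Odd p) (hQ : 2 ≤ |Q|) {n : ℕ} (hn : 1 < n)
    (h : ¬ (p : ℤ) ∣ Q ^ (n - 1) - 1 ∨ ((p : ℤ) ∣ Q - 1 ∧ p ∣ n ∧ vz p (Q - 1) ≤ n.factorization p)) :
    vz p (Q ^ (n - 1) - 1) = (Nat.gcd n (Q - 1).natAbs).factorization p := by
  have h1 : Q - 1 ≠ 0 := by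
    have := pow_sub_one_ne hQ one_pos
    rwa [pow_one] at this
  rw [gcd_fac (by omega) h1]
  rcases h with h | ⟨h, h', h''⟩
  · have h2 : ¬ (p : ℤ) ∣ Q - 1 := fun h3 => h (h3.trans (sub_one_dvd_pow_sub_one Q _))
    rw [vz_zero_of_not_dvd h, vz_zero_of_not_dvd h2, Nat.min_zero]
  · rw [min_eq_right h'']
    have h3 : (n - 1).factorization p = 0 := by
      refine Nat.factorization_eq_zero_of_not_dvd fun h4 => ?_
      have h5 := Nat.dvd_sub h' h4
      have h6 : n - (n - 1) = 1 := by omega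
      rw [h6] at h5
      exact hp.one_lt.ne' (Nat.dvd_one.1 h5)
    have h4 := fac_pow hp ho h h1 (n := n - 1) (by omega) (pow_sub_one_ne hQ (by omega))
    rw [h3, add_zero] at h4
    exact h4

end val

end Cfsg.Agent.R2.H1.DZ
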