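import Cfsg.Agent.H666.Clif.Desc
import Cfsg.Agent.H646.Restrict
import Cfsg.Agent.H477.HC.Groups

/-!
# Constituents of the restriction to a normal subgroup with cyclic quotient (S4527)

`exists_down` : if no linear character of `G / N` of order `p` fixes `χ`, then the number of constituents of `χ|N` is
prime to `p`.
-/

set_option autoImplicit false
set_option linter.unusedSectionVars false

open Cfsg
open scoped ComplexConjugate

namespace Cfsg.Agent.R2.H1.DZ

open Cfsg.Agent.Characters Cfsg.Agent.H666.Clif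

universe u

variable {G : Type u} [Group G] [Finite G]

/-- a character fixed by no linear character of order `p` of `G / N` is irreducible on `pKer N p` -/
theorem isIrr_pKer (N : Subgroup G) [N.Normal] (hcyc : IsCyclic (G ⧸ N)) {χ : G → ℂ} (hχ : IsIrrCharacter G χ)
    {p : ℕ} (hp : p.Prime)
    (hfix : ∀ l : G →* ℂˣ, (∀ x ∈ N, l x = 1) → orderOf l = p → ¬ ∀ g, (l g : ℂ) * χ g = χ g) :
    IsIrrCharacter (pKer N p) fun h : pKer N p => χ h := by
  classical
  have := Fintype.ofFinite G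
  have := Fintype.ofFinite (pKer N p)
  obtain ⟨lp, lq, a, m, ham, hmc, hlp, hlq, hK, hSq, hchar⟩ := exists_split N hcyc hp
  have hKi : (pKer N p).index = p ^ a := by rw [hK, index_ker, hlp]
  refine Cfsg.Agent.H646.Restrict.isIrr_restrict (N := pKer N p) ?_ hχ ?_
  · intro x y
    have h1 : IsCyclic (G ⧸ pKer N p) := isCyclic_quot (le_pKer N p) hcyc
    obtain ⟨g, hg⟩ := h1.exists_generator
    obtain ⟨i, hi⟩ := Subgroup.mem_zpowers_iff.1 (hg x)
    obtain ⟨j, hj⟩ := Subgroup.mem_zpowers_iff.1 (hg y)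
    rw [← hi, ← hj, ← zpow_add, ← zpow_add, add_comm]
  · intro μ hμ
    by_contra hne
    let l : G →* ℂˣ := (μ.comp (QuotientGroup.mk' (pKer N p))).toHomUnits
    have hl : ∀ g, ((l g : ℂˣ) : ℂ) = μ (g : G ⧸ pKer N p) := fun g => rfl
    have hl1 : l ≠ 1 := by
      intro h
      apply hne
      refine MonoidHom.ext fun y => ?_
      obtain ⟨g, rfl⟩ := QuotientGroup.mk_surjective y
      rw [← hl, h]
      rfl
    have hlK : ∀ x ∈ pKer N p, l x = 1 := by
      intro x hx
      apply Units.ext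
      rw [hl, (QuotientGroup.eq_one_iff x).2 hx, map_one, Units.val_one]
    have hlp' : l ^ (p ^ a) = 1 := by
      refine MonoidHom.ext fun g => ?_
      rw [MonoidHom.pow_apply, MonoidHom.one_apply, ← map_pow]
      apply hlK
      rw [← hKi]
      exact Subgroup.pow_index_mem (pKer N p) g
    obtain ⟨j, hj, hj'⟩ := (Nat.dvd_prime_pow hp).1 ((orderOf_dvd_iff_pow_eq_one (x := l)).2 hlp')
    have hj0 : j ≠ 0 := by
      rintro rfl
      rw [pow_zero, orderOf_eq_one_iff] at hj'
      exact hl1 hj'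
    obtain ⟨i, rfl⟩ := Nat.exists_eq_succ_of_ne_zero hj0
    have h2 : orderOf (l ^ (p ^ i)) = p := by
      rw [orderOf_pow' l (pow_ne_zero _ hp.ne_zero), hj', Nat.succ_eq_add_one, pow_succ]
      rw [Nat.gcd_eq_right (Dvd.intro _ rfl), Nat.mul_div_cancel_left _ (pow_pos hp.pos i)]
    refine hfix (l ^ (p ^ i)) (fun x hx => ?_) h2 fun g => ?_
    · rw [MonoidHom.pow_apply, hlK x (le_pKer N p hx), one_pow]
    · rw [MonoidHom.pow_apply, Units.val_pow_eq_pow_val, hl]
      have h3 := hμ g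
      by_cases h0 : χ g = 0
      · rw [h0, mul_zero]
      · have h4 : μ (g : G ⧸ pKer N p) = 1 := by
          rw [mul_comm] at h3
          exact mul_right_cancel₀ h0 (by rw [h3, one_mul])
        rw [h4, one_pow, one_mul]

/-- **descent to a normal subgroup with cyclic quotient** -/
theorem exists_down (N : Subgroup G) [N.Normal] (hcyc : IsCyclic (G ⧸ N)) {χ : G → ℂ} (hχ : IsIrrCharacter G χ)
    {d : ℕ} (hd : χ 1 = d) {p : ℕ} (hp : p.Prime)
    (hfix : ∀ l : G →* ℂˣ, (∀ x ∈ N, l x = 1) → orderOf l = p → ¬ ∀ g, (l g : ℂ) * χ g = χ g) :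
    ∃ (θ : N → ℂ) (e : ℕ), IsIrrCharacter N θ ∧ θ 1 = e ∧ e ∣ d ∧ ¬ p ∣ d / e ∧ 0 < e ∧
      ∀ z : N, (z : G) ∈ Subgroup.center G → χ z = χ 1 → θ z = θ 1 := by
  classical
  obtain ⟨lp, lq, a, m, ham, hmc, hlp, hlq, hK, hSq, hchar⟩ := exists_split N hcyc hp
  have hKi : (pKer N p).index = p ^ a := by rw [hK, index_ker, hlp]
  have hSK := le_pKer N p
  have hSK' : (N.subgroupOf (pKer N p)).index = m := by
    have h1 := Subgroup.relIndex_mul_index hSK
    rw [hKi, ham, mul_comm] at h1
    exact Nat.eq_of_mul_eq_mul_left (pow_pos hp.pos a) h1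
  have hψ := isIrr_pKer N hcyc hχ hp hfix
  have : (N.subgroupOf (pKer N p)).Normal := Subgroup.normal_subgroupOf
  obtain ⟨θ, e, hθ, he, h3, h4, h5, h6⟩ := Cfsg.Agent.H477.HC.down_constituent (N.subgroupOf (pKer N p)) hψ
    (d := d) (by rw [← hd]; rfl)
  rw [hSK'] at h4
  let E := Subgroup.subgroupOfEquivOfLe hSK
  refine ⟨θ ∘ E.symm.toMonoidHom, e, Core.isIrr_comp E.symm.toMonoidHom E.symm.surjective hθ, ?_, h3, ?_, h5, ?_⟩
  · change θ (E.symm 1) = e
    rw [map_one, he]
  · intro h7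
    exact hp.one_lt.ne' (Nat.eq_one_of_dvd_coprimes hmc (h7.trans h4) (dvd_refl p))
  · intro z hz hzχ
    change θ (E.symm z) = θ (E.symm 1)
    rw [map_one]
    have hE : (((E.symm z : N.subgroupOf (pKer N p)) : pKer N p) : G) = z := by
      have h7 : E (E.symm z) = z := E.apply_symm_apply z
      have h8 := congrArg (fun x : N => (x : G)) h7
      exact h8
    refine h6 _ ?_ ?_
    · rw [Subgroup.mem_center_iff]
      intro g
      apply Subtype.ext
      apply Subtype.ext
      change ((g : pKer N p) : G) * (((E.symm z : N.subgroupOf (pKer N p)) : pKer N p) : G) =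
        (((E.symm z : N.subgroupOf (pKer N p)) : pKer N p) : G) * ((g : pKer N p) : G)
      rw [hE]
      exact Subgroup.mem_center_iff.1 hz _
    · change χ (((E.symm z : N.subgroupOf (pKer N p)) : pKer N p) : G) = χ (((1 : pKer N p)) : G)
      rw [hE, hzχ]
      rfl

end Cfsg.Agent.R2.H1.DZ
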