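import Cfsg.Agent.R2.H1.DZ.UU
import Cfsg.Agent.H577.GLB.Fam
import Cfsg.Agent.R2.H1.DZ.Psu

/-!
# The linear groups: good characters and the descent to `PSL_n(q)` (S4527)

* `glLin` : the labels of the linear characters for the tower of `GL_n(F)`;
* `GoodL F n p D`, `goodL_T`, `goodL_H`; `exists_psl` : descent.
* `hasDZ_psl_dvd` : `p ∣ q - 1`, `p ∣ n`.
-/

set_option autoImplicit false
set_option linter.unusedSectionVars false

open Cfsg
open scoped ComplexConjugate MatrixGroups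

namespace Cfsg.Agent.R2.H1.DZ

open Cfsg.Agent.H577.GLB.Std Cfsg.Agent.H614 Cfsg.Agent.H614.GLn.RSt
open Cfsg.Agent.H615.GU Cfsg.Agent.H794.EM Cfsg.Agent.H623.GU Cfsg.Agent.H112.GLB
open Cfsg.Agent.H624.Sl (scl)
open Cfsg.Agent.H577.GLB.Real (slS)
open Cfsg.Agent.Characters

universe u v

section lin

variable {F : Type u} [Field F] [Fintype F] {K : Type u} [Field K] [Algebra F K] {n : ℕ}

/-- the determinant in the large field -/
noncomputable def fG (F : Type u) [Field F] (K : Type u) [Field K] [Algebra F K] (n : ℕ) : GL (Fin n) F →* Kˣ :=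
  (Units.map ((algebraMap F K : F →+* K) : F →* K)).comp Matrix.GeneralLinearGroup.det

theorem fG_coe (g : GL (Fin n) F) : ((fG F K n g : Kˣ) : K) = algebraMap F K g.1.det := rfl

theorem map_inj : Function.Injective (Units.map ((algebraMap F K : F →+* K) : F →* K)) :=
  Units.map_injective (algebraMap F K).injective

theorem ker_fG : slS F n = (fG F K n).ker := by
  ext g
  rw [MonoidHom.mem_ker]
  constructor
  · intro h
    have h1 : Matrix.GeneralLinearGroup.det g = 1 := h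
    show Units.map ((algebraMap F K : F →+* K) : F →* K) (Matrix.GeneralLinearGroup.det g) = 1
    rw [h1, map_one]
  · intro h
    have h1 : Matrix.GeneralLinearGroup.det g = 1 := by
      apply map_inj (F := F) (K := K)
      rw [map_one]
      exact h
    exact h1

theorem fG_pow (g : GL (Fin n) F) : fG F K n g ^ ((Fintype.card F : ℤ) - 1) = 1 := by
  have h1 : (1 : ℕ) ≤ Fintype.card F := Fintype.card_pos
  have h2 : ((Fintype.card F : ℤ) - 1) = ((Fintype.card F - 1 : ℕ) : ℤ) := by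
    rw [Nat.cast_sub h1]; norm_num
  rw [h2, zpow_natCast]
  change (Units.map ((algebraMap F K : F →+* K) : F →* K) (Matrix.GeneralLinearGroup.det g)) ^ _ = 1
  rw [← map_pow, ← Nat.card_eq_fintype_card, ← Nat.card_units, pow_card_eq_one', map_one]

theorem fG_surj (hn0 : 0 < n) (x : Kˣ) (hx : x ^ ((Fintype.card F : ℤ) - 1) = 1) : ∃ g : GL (Fin n) F, fG F K n g = x := by
  classical
  have h1 : (2 : ℕ) ≤ Fintype.card F := Fintype.one_lt_card
  have h2 : ((Fintype.card F : ℤ) - 1) = ((Fintype.card F - 1 : ℕ) : ℤ) := by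
    rw [Nat.cast_sub (by omega)]; norm_num
  rw [h2, zpow_natCast] at hx
  obtain ⟨g, hg⟩ := IsCyclic.exists_generator (α := Fˣ)
  have ho : orderOf g = Fintype.card F - 1 := by
    rw [orderOf_eq_card_of_forall_mem_zpowers hg, Nat.card_units, Nat.card_eq_fintype_card]
  let y0 : Kˣ := Units.map ((algebraMap F K : F →+* K) : F →* K) g
  have hy : orderOf y0 = Fintype.card F - 1 := by rw [← ho]; exact orderOf_injective _ map_inj _
  have h6 : IsPrimitiveRoot y0 (Fintype.card F - 1) := by rw [← hy]; exact IsPrimitiveRoot.orderOf y0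
  have h7 : IsPrimitiveRoot (y0 : K) (Fintype.card F - 1) := IsPrimitiveRoot.coe_units_iff.2 h6
  have : NeZero (Fintype.card F - 1) := ⟨by omega⟩
  obtain ⟨i, -, hi⟩ := h7.eq_pow_of_pow_eq_one (ξ := (x : K)) (by
    rw [← Units.val_pow_eq_pow_val, hx, Units.val_one])
  have hdet : ∃ A : GL (Fin n) F, Matrix.GeneralLinearGroup.det A = g ^ i := by
    have : NeZero n := ⟨hn0.ne'⟩
    refine ⟨Cfsg.Agent.H321.Ker.dg n (g ^ i), ?_⟩
    apply Units.ext
    exact Cfsg.Agent.H321.Ker.det_dg (g ^ i)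
  obtain ⟨A, hA⟩ := hdet
  refine ⟨A, ?_⟩
  show Units.map ((algebraMap F K : F →+* K) : F →* K) (Matrix.GeneralLinearGroup.det A) = x
  rw [hA, map_pow]
  apply Units.ext
  rw [Units.val_pow_eq_pow_val]
  exact hi

variable {θ : K →*₀ ℂ} {M N p : ℕ} [NeZero M]

/-- the labels of the linear characters of `GL_n(F)` for a tower -/
noncomputable def glLin (C : H614.GLn.Ctx F θ N M) (ctx : CtxQ θ (Fintype.card F : ℤ) M N)
    (t : Tow θ (Fintype.card F : ℤ) M N p (fun n => GL (Fin n) F))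
    (ht : ∀ k hk (A : GL (Fin k) F) (x : Kˣ),
      (t.T k hk).typ A (Quotient.mk (orbSetoid K (Fintype.card F : ℤ)) x) = mcol A.1 (x : K))
    (hn : n ≤ N) (hn0 : 0 < n) : Cfsg.Agent.H666.Clif.LinData (t.R n hn) (slS F n) :=
  have := ctx.finK
  Cfsg.Agent.H666.GU.linData (R := t.R n hn) ctx (hn0.trans_le hn) (fG F K n) fG_pow (fG_surj hn0) (by
    intro a ha x hx
    funext g
    rw [t.R_om, t.R_om, fG_coe]
    rw [Cfsg.Agent.H421.GU.evR_twist ctx.card ctx.unit (fun v x => H531.GU.evR_X_mul θ _ M H521.GU.i2s v x) ha hx.1,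
      H697.GW.linT_eq (fun h hm hd => C.spl h hm (hd.trans hn)) θ M a (g := g) (fun y => ht n hn g y)])
    (slS F n) ker_fG

end lin

section gl

variable {F : Type u} [Field F] [Fintype F] {n p : ℕ}

/-- a good character of `GL_n(q)` -/
def GoodL (F : Type u) [Field F] [Fintype F] (n p : ℕ) (D : ℤ) : Prop :=
  ∃ χ : IrrCharacter (GL (Fin n) F),
    (∃ u : ℤˣ, (charDegree (χ : GL (Fin n) F → ℂ) : ℤ) * D = u * PHz (Fintype.card F : ℤ) n) ∧
    (∀ (z : GL (Fin n) F) (c : Fˣ), z = scl n c → (χ : GL (Fin n) F → ℂ) z = (χ : GL (Fin n) F → ℂ) 1) ∧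
    ∀ l : GL (Fin n) F →* ℂˣ, (∀ x ∈ slS F n, l x = 1) → orderOf l = p →
      ¬ ∀ g, (l g : ℂ) * (χ : GL (Fin n) F → ℂ) g = (χ : GL (Fin n) F → ℂ) g

/-- good characters from a context -/
theorem goodL_of {K : Type u} [Field K] [Algebra F K] {θ : K →*₀ ℂ} {M : ℕ} [NeZero M]
    (ctx : CtxQ θ (Fintype.card F : ℤ) M n)
    (t : Tow θ (Fintype.card F : ℤ) M n p (fun n => GL (Fin n) F))
    (ht : ∀ k hk (A : GL (Fin k) F) (x : Kˣ),
      (t.T k hk).typ A (Quotient.mk (orbSetoid K (Fintype.card F : ℤ)) x) = mcol A.1 (x : K))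
    {D : ℤ} (h : Good t (le_refl n) (slS F n) D) : GoodL F n p D := by
  have := ctx.finK
  obtain ⟨χ, h1, h2, h3⟩ := h
  refine ⟨χ, h1, fun z c hz => ?_, h3⟩
  have hzQ : (Units.map (algebraMap F K).toMonoidHom c) ^ ((Fintype.card F : ℤ) - 1) = 1 := by
    have h1 : (1 : ℕ) ≤ Fintype.card F := Fintype.card_pos
    have h2 : ((Fintype.card F : ℤ) - 1) = ((Fintype.card F - 1 : ℕ) : ℤ) := by
      rw [Nat.cast_sub h1]; norm_num
    rw [h2, zpow_natCast, ← map_pow, ← Nat.card_eq_fintype_card, ← Nat.card_units, pow_card_eq_one', map_one]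
  exact h2 z _ hzQ (typ_scal ctx.card ctx.unit (t.T n le_rfl) (A := z) (z := c) (fun x => ht n le_rfl z x) hz hzQ)

theorem cast_ne_G (hp : p.Prime) (hpq : ¬ p ∣ Fintype.card F) : (p : F) ≠ 0 := by
  intro h0
  obtain ⟨r, hr⟩ := CharP.exists F
  obtain ⟨f, hrp, hf⟩ := FiniteField.card F r
  rw [CharP.cast_eq_zero_iff F r p] at h0
  have h1 : r = p := (Nat.prime_dvd_prime_iff_eq hrp hp).1 h0
  apply hpq
  rw [hf, h1]
  exact dvd_pow_self p f.pos.ne'

/-- **`T_n` for `GL_n(q)`** -/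
theorem goodL_T (hn0 : 0 < n) (hp : p.Prime) (hpq : ¬ p ∣ Fintype.card F)
    (hf : Full (Fintype.card F : ℤ) n)
    (hcase : ¬ p ∣ n ∨ ¬ (p : ℤ) ∣ (Fintype.card F : ℤ) - 1 ∨ (5 ≤ n ∧ 4 ≤ Fintype.card F)) :
    GoodL F n p ((Fintype.card F : ℤ) ^ n - 1) := by
  obtain ⟨K, _, _, θ, M, _, C⟩ := Cfsg.Agent.H120.GLB.Ctx.exists_ctx F n
  have ctx : CtxQ θ (Fintype.card F : ℤ) M n := by
    have := H614.GU.ctxQ_card C
    rwa [Nat.card_eq_fintype_card] at this
  obtain ⟨t, ht⟩ := H941.GU.towG (p := p) ctx C hp (cast_ne_G hp hpq)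
  refine goodL_of ctx t ht (good_T ctx t le_rfl hn0 hp (glLin C ctx t ht le_rfl hn0)
    (H577.HT.typ_one_G ctx (t.T n le_rfl) (fun A x => ht n le_rfl A x)) hf ?_)
  exact hcase.imp id (Or.imp id fun ⟨h1, h2⟩ => ⟨h1, by rw [Nat.abs_cast]; exact_mod_cast h2⟩)

/-- **`T_{n-1} × T_1` for `GL_n(q)`** -/
theorem goodL_H {k : ℕ} (hk : 2 ≤ k) (hp : p.Prime) (hpq : ¬ p ∣ Fintype.card F)
    (hf : Full (Fintype.card F : ℤ) k) :
    GoodL F (k + 1) p (((Fintype.card F : ℤ) ^ k - 1) * ((Fintype.card F : ℤ) - 1)) := by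
  obtain ⟨K, _, _, θ, M, _, C⟩ := Cfsg.Agent.H120.GLB.Ctx.exists_ctx F (k + 1)
  have ctx : CtxQ θ (Fintype.card F : ℤ) M (k + 1) := by
    have := H614.GU.ctxQ_card C
    rwa [Nat.card_eq_fintype_card] at this
  obtain ⟨t, ht⟩ := H941.GU.towG (p := p) ctx C hp (cast_ne_G hp hpq)
  exact goodL_of ctx t ht (good_H ctx t le_rfl hk hp (glLin C ctx t ht le_rfl (Nat.succ_pos k))
    (H577.HT.typ_one_G ctx (t.T _ le_rfl) (fun A x => ht _ le_rfl A x)) hf)

/-- `SL ≃ ker det` -/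
noncomputable def eSL (n : ℕ) (F : Type u) [Field F] : Matrix.SpecialLinearGroup (Fin n) F ≃* slS F n :=
  MulEquiv.ofBijective ((Matrix.SpecialLinearGroup.toGL (n := Fin n) (R := F)).codRestrict (slS F n) (fun g => by
    change Matrix.GeneralLinearGroup.det (Matrix.SpecialLinearGroup.toGL g) = 1
    apply Units.ext
    exact g.2))
    ⟨fun a b h => Matrix.SpecialLinearGroup.toGL_injective (congrArg Subtype.val h), fun x => by
      have h1 : (x : GL (Fin n) F).1.det = 1 := by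
        have h2 : Matrix.GeneralLinearGroup.det (x : GL (Fin n) F) = 1 := x.2
        exact congrArg Units.val h2
      refine ⟨⟨(x : GL (Fin n) F).1, h1⟩, ?_⟩
      apply Subtype.ext
      exact Units.ext rfl⟩

theorem eSL_val (g : Matrix.SpecialLinearGroup (Fin n) F) :
    (((eSL n F g : slS F n) : GL (Fin n) F) : Matrix (Fin n) (Fin n) F) = (g : Matrix (Fin n) (Fin n) F) := rfl

/-- **descent to `PSL`** -/
theorem exists_psl (hn : 1 ≤ n) (hp : p.Prime) {D : ℤ} (h : GoodL F n p D) :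
    ∃ (η : IrrCharacter (Matrix.ProjectiveSpecialLinearGroup (Fin n) F)) (r : ℕ), ¬ p ∣ r ∧
      ∃ u : ℤˣ, ((charDegree (η : Matrix.ProjectiveSpecialLinearGroup (Fin n) F → ℂ) * r : ℕ) : ℤ) * D =
        u * PHz (Fintype.card F : ℤ) n := by
  classical
  obtain ⟨χ, ⟨u, hu⟩, hz, hfix⟩ := h
  have hcyc : IsCyclic (GL (Fin n) F ⧸ slS F n) := isCyclic_quot_ker _
  obtain ⟨θ, e, hθ, he, h3, h4, h5, h6⟩ := exists_down (slS F n) hcyc χ.2
    (Cfsg.Agent.Blocks.Basic.irr_one_eq_charDegree χ.2) hp hfix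
  have hθ' : IsIrrCharacter (Matrix.SpecialLinearGroup (Fin n) F) (θ ∘ (eSL n F).toMonoidHom) :=
    Core.isIrr_comp (eSL n F).toMonoidHom (eSL n F).surjective hθ
  obtain ⟨η, hη, hη'⟩ := Cfsg.Agent.H477.HC.exists_quot (Subgroup.center (Matrix.SpecialLinearGroup (Fin n) F)) hθ'
    (fun z hzc => by
      obtain ⟨r, hr, hr'⟩ := Matrix.SpecialLinearGroup.mem_center_iff.1 hzc
      have hr0 : r ≠ 0 := by
        rintro rfl
        rw [Fintype.card_fin, zero_pow (by omega)] at hr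
        exact zero_ne_one hr
      change θ (eSL n F z) = θ (eSL n F 1)
      rw [map_one]
      have hz1 : ((eSL n F z : slS F n) : GL (Fin n) F) = scl n (Units.mk0 r hr0) := by
        apply Units.ext
        rw [eSL_val, ← hr']
        rfl
      refine h6 _ ?_ (hz _ (Units.mk0 r hr0) hz1)
      rw [hz1, Subgroup.mem_center_iff]
      intro g
      exact (Cfsg.Agent.H623.GU.scl_comm _ g).symm)
  have he' : charDegree η = e := by
    apply Cfsg.Agent.Blocks.Basic.charDegree_of_eq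
    rw [← he]
    have := hη' 1
    rw [QuotientGroup.mk_one] at this
    rw [this]
    change θ (eSL n F 1) = θ 1
    rw [map_one]
  refine ⟨⟨η, hη⟩, _, h4, u, ?_⟩
  change ((charDegree η * (charDegree (χ : GL (Fin n) F → ℂ) / e) : ℕ) : ℤ) * D = _
  rw [he', Nat.mul_div_cancel' h3, hu]

end gl

end Cfsg.Agent.R2.H1.DZ
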