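import Cfsg.Agent.R2.H1.DZ.Scal
import Cfsg.Agent.R2.H1.DZ.Down
import Cfsg.Agent.H139.XZ.Lab
import Cfsg.Agent.H623.GU.Geo
import Cfsg.Agent.H666.Clif.Sec

/-!
# The characters of the tori `T_n` and `T_{n-1} × T_1` (S4527, PSL / PSU)

`Good t hn S p D` : an irreducible character of degree `± ∏ (Q^i - 1) / D`, trivial on the scalars, not fixed by a
linear character of order `p` of `G / S`.
* `good_T` : `D = Q^n - 1`; `good_H` : `D = (Q^(n-1) - 1) (Q - 1)`.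
-/

set_option autoImplicit false
set_option linter.unusedSectionVars false

open Cfsg
open scoped ComplexConjugate

namespace Cfsg.Agent.R2.H1.DZ

open Cfsg.Agent.H577.GLB.Std Cfsg.Agent.H614 Cfsg.Agent.H614.GLn.RSt
open Cfsg.Agent.H615.GU Cfsg.Agent.H794.EM Cfsg.Agent.H623.GU Cfsg.Agent.H112.GLB Cfsg.Agent.H139.XZ
open Cfsg.Agent.H76.GLB (mkL SchP_mkL idb bsz_idb repl repl_same repl_not)

universe u

/-- `∏ (Q^i - 1)` -/
def PHz (Q : ℤ) (n : ℕ) : ℤ := ∏ i ∈ Finset.range n, (Q ^ (i + 1) - 1)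

theorem PHz_cast (Q : ℤ) (n : ℕ) : ((PHz Q n : ℤ) : ℂ) = ph (Q : ℂ) n := by
  rw [PHz, ph, Int.cast_prod]
  exact Finset.prod_congr rfl fun i _ => by push_cast; rfl

variable {K : Type u} [Field K] {θ : K →*₀ ℂ} {Q : ℤ} {M : ℕ} [NeZero M] {N p : ℕ} {G : ℕ → Type u} [∀ n, Group (G n)]
    [∀ n, Finite (G n)]

/-- a good irreducible character -/
def Good (t : Tow θ Q M N p G) {n : ℕ} (hn : n ≤ N) (S : Subgroup (G n)) (D : ℤ) : Prop :=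
  ∃ χ : IrrCharacter (G n), (∃ u : ℤˣ, (charDegree (χ : G n → ℂ) : ℤ) * D = u * PHz Q n) ∧
    (∀ g : G n, ∀ ζ : Kˣ, ζ ^ (Q - 1) = 1 → (t.T n hn).typ g = tyS Q ζ n → (χ : G n → ℂ) g = (χ : G n → ℂ) 1) ∧
    ∀ l : G n →* ℂˣ, (∀ x ∈ S, l x = 1) → orderOf l = p → ¬ ∀ g, (l g : ℂ) * (χ : G n → ℂ) g = (χ : G n → ℂ) g

theorem oneT_ne {m : ℕ} (hm : 0 < m) : oneT m ≠ idb m := by
  intro h
  have h1 := bsz_oneT hm
  rw [h, bsz_idb] at h1
  exact zero_ne_one h1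

theorem zpow_eq_self {z : Kˣ} (hz : z ^ (Q - 1) = 1) : z ^ Q = z := by
  have h : Q = (Q - 1) + 1 := by ring
  rw [h, zpow_add, hz, one_mul, zpow_one]

/-- from the value of the realization -/
theorem good_of (t : Tow θ Q M N p G) {n : ℕ} (hn : n ≤ N) (S : Subgroup (G n)) (h1 : (t.T n hn).typ 1 = tyOne Q n)
    {m : ℕ} (hm : n ≤ m) (T : LabZ Q M m n) {D : ℤ} {v : ℂ} (hD : ∃ u : ℤˣ, v * D = ((u : ℤ) : ℂ) * ph (Q : ℂ) n)
    (hv : ∀ ζ : Kˣ, ζ ^ (Q - 1) = 1 → H615.GU.evR θ Q M (SchP Q M T.t) (tyS Q ζ n) = v)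
    (hl : ∀ χ : IrrCharacter (G n), (t.R n hn).IsLb χ T → ∀ l : G n →* ℂˣ, (∀ x ∈ S, l x = 1) → orderOf l = p →
      ¬ ∀ g, (l g : ℂ) * (χ : G n → ℂ) g = (χ : G n → ℂ) g) : Good t hn S D := by
  obtain ⟨χ, hχ, -⟩ := (t.bij n m hn hm).2 T
  obtain ⟨s, hs⟩ := id hχ
  have hss : ((s : ℤ) : ℂ) * ((s : ℤ) : ℂ) = 1 := by
    rw [← Int.cast_mul, ← Units.val_mul, Int.units_mul_self, Units.val_one, Int.cast_one]
  have key : ∀ g : G n, ∀ ζ : Kˣ, ζ ^ (Q - 1) = 1 → (t.T n hn).typ g = tyS Q ζ n →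
      (χ : G n → ℂ) g = ((s : ℤ) : ℂ) * v := by
    intro g ζ hζ hg
    have h2 := congrFun hs g
    change H615.GU.evR θ Q M (SchP Q M T.t) ((t.T n hn).typ g) = ((s : ℤ) : ℂ) * (χ : G n → ℂ) g at h2
    rw [hg, hv ζ hζ] at h2
    rw [h2, ← mul_assoc, hss, one_mul]
  have h2 : (χ : G n → ℂ) 1 = ((s : ℤ) : ℂ) * v := key 1 1 (one_zpow _) (by rw [h1, tyS_one])
  refine ⟨χ, ?_, fun g ζ hζ hg => by rw [key g ζ hζ hg, h2], hl χ hχ⟩
  obtain ⟨u, hu⟩ := hD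
  refine ⟨s * u, ?_⟩
  have h3 : ((charDegree (χ : G n → ℂ) : ℕ) : ℂ) = (χ : G n → ℂ) 1 :=
    (Cfsg.Agent.Blocks.Basic.irr_one_eq_charDegree χ.2).symm
  have h4 : (((charDegree (χ : G n → ℂ) : ℕ) : ℤ) * D : ℂ) = (((s * u : ℤˣ) : ℤ) * PHz Q n : ℤ) := by
    rw [Int.cast_natCast, h3, h2, mul_assoc, hu, Int.cast_mul, PHz_cast]
    push_cast
    ring
  exact_mod_cast h4

/-- the label with the partition `(1)` at `c` -/
noncomputable def labT (hQ : IsUnit (Q : ZMod M)) {n : ℕ} (hn : 0 < n) {c : ZMod M} (hc : perZ Q M c = n) :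
    LabZ Q M n n where
  t := (mkL hQ c (oneT n) (oneT_mono n) (bsz_oneT hn)).t
  mono := (mkL hQ c (oneT n) (oneT_mono n) (bsz_oneT hn)).mono
  orb := (mkL hQ c (oneT n) (oneT_mono n) (bsz_oneT hn)).orb
  sum := by rw [(mkL hQ c (oneT n) (oneT_mono n) (bsz_oneT hn)).sum, mul_one, hc]

theorem SchP_labT (hQ : IsUnit (Q : ZMod M)) {n : ℕ} (hn : 0 < n) {c : ZMod M} (hc : perZ Q M c = n)
    (hcc : canon Q M c = c) : SchP Q M (labT hQ hn hc).t = MvPolynomial.X (n, c) := by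
  change SchP Q M (mkL hQ c (oneT n) (oneT_mono n) (bsz_oneT hn)).t = _
  rw [SchP_mkL, SS_oneT hn, hcc, Pw, one_mul, hc, rv, if_pos, hcc]
  exact ⟨hn, (torZ_iff n c).2 (dvd_of_eq hc)⟩

theorem cs_mul {t : ℂ} {k : ℕ} (h : t ^ k - 1 ≠ 0) : cs t k * (t ^ k - 1) = (-1) ^ (k - 1) := by
  rw [cs, mul_assoc, inv_mul_cancel₀ h, mul_one]

variable {S : ∀ n, Subgroup (G n)}

/-- **the torus `T_n`** -/
theorem good_T (ctx : CtxQ θ Q M N) (t : Tow θ Q M N p G) {n : ℕ} (hn : n ≤ N) (hn0 : 0 < n) (hp : p.Prime)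
    {S : Subgroup (G n)} (L : Cfsg.Agent.H666.Clif.LinData (t.R n hn) S) (h1 : (t.T n hn).typ 1 = tyOne Q n)
    (hf : Full Q n) (hcase : ¬ p ∣ n ∨ ¬ (p : ℤ) ∣ Q - 1 ∨ (5 ≤ n ∧ 4 ≤ |Q|)) : Good t hn S (Q ^ n - 1) := by
  have := ctx.finK
  obtain ⟨c, hcc, hc, hk⟩ := exists_lab' ctx hn0 hn hf
  have h2 : ∀ ζ : Kˣ, ζ ^ (Q - 1) = 1 → H615.GU.evR θ Q M (SchP Q M (labT ctx.unit hn0 hc).t) (tyS Q ζ n) =
      ph (Q : ℂ) n * cs (Q : ℂ) n := by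
    intro ζ hζ
    rw [SchP_labT ctx.unit hn0 hc hcc]
    have h3 := evR_X_tyS ctx (zpow_eq_self hζ) hn0 c n
    rw [if_pos rfl, th_eq_one hζ ((hk _).2 dvd_rfl), one_mul] at h3
    rw [← h3, mul_comm, mul_assoc, inv_mul_cancel₀ (ph_ne (ht_of ctx) n), mul_one]
  refine good_of t hn S h1 le_rfl (labT ctx.unit hn0 hc) (v := ph (Q : ℂ) n * cs (Q : ℂ) n) ⟨(-1) ^ (n - 1), ?_⟩ h2 ?_
  · have h4 : (Q : ℂ) ^ n - 1 ≠ 0 := sub_ne_zero.2 (ht_of ctx n hn0)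
    push_cast
    rw [mul_assoc, cs_mul h4]
    ring
  · intro χ hχ l hl hlp hfix
    obtain ⟨a, ha, hal, hfa⟩ := L.fixed_label (t.bij n n hn le_rfl) hl hfix hχ
    have ho : addOrderOf a = p := by rw [← L.ord a ha, hal, hlp]
    have hpa : p • a = 0 := by rw [← ho, addOrderOf_nsmul_eq_zero]
    have h5 := hfa c
    have h6 : SameZ Q M c (c + a) := by
      by_contra hns
      change repl Q (fun _ => idb n) c (oneT n) (c + a) = repl Q (fun _ => idb n) c (oneT n) c at h5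
      rw [repl_not _ _ hns, repl_same _ _ ⟨0, by rw [pow_zero, one_mul]⟩] at h5
      exact oneT_ne hn0 h5.symm
    have h7 := eq_zero_of_same hp ctx.two hn0 hc hk ha hpa h6 hcase
    rw [h7, addOrderOf_zero] at ho
    exact hp.one_lt.ne ho

/-- **the torus `T_{n-1} × T_1`** -/
theorem good_H (ctx : CtxQ θ Q M N) (t : Tow θ Q M N p G) {k : ℕ} (hn : k + 1 ≤ N) (hk0 : 2 ≤ k) (hp : p.Prime)
    {S : Subgroup (G (k + 1))} (L : Cfsg.Agent.H666.Clif.LinData (t.R (k + 1) hn) S)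
    (h1 : (t.T (k + 1) hn).typ 1 = tyOne Q (k + 1))
    (hf : Full Q k) : Good t hn S ((Q ^ k - 1) * (Q - 1)) := by
  have := ctx.finK
  obtain ⟨c, hcc, hc, hk⟩ := exists_lab' ctx (by omega) (by omega : k ≤ N) hf
  have hc0 : c ≠ 0 := by
    rintro rfl
    rw [Cfsg.Agent.H139.XZ.perZ_zero ctx.unit] at hc
    omega
  have hm : 0 < k + 1 := Nat.succ_pos k
  let T := two ctx.unit (oneT_mono (k + 1)) (bsz_oneT hm) c hc0 (oneT_mono (k + 1)) (n := k + 1)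
    (by rw [bsz_oneT hm, hc]; omega)
  have hT : SchP Q M T.t = MvPolynomial.X (k, c) * MvPolynomial.X (1, 0) := by
    rw [SchP_two, bsz_oneT hm, SS_oneT hm, SS_oneT hm, hcc, Pw, Pw, one_mul, one_mul, hc, perZ_zero ctx.unit, rv, rv,
      if_pos, if_pos, hcc, Cfsg.Agent.H139.XZ.canon_zero ctx.unit]
    · exact ⟨one_pos, by rw [TorZ, mul_zero]⟩
    · exact ⟨by omega, (torZ_iff k c).2 (dvd_of_eq hc)⟩
  have h2 : ∀ ζ : Kˣ, ζ ^ (Q - 1) = 1 → H615.GU.evR θ Q M (SchP Q M T.t) (tyS Q ζ (k + 1)) =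
      ph (Q : ℂ) (k + 1) * (cs (Q : ℂ) k * cs (Q : ℂ) 1) := by
    intro ζ hζ
    rw [hT]
    have h3 := evR_mul_tyS ctx (zpow_eq_self hζ) (k := k) (by omega) c
    rw [th_eq_one hζ ((hk _).2 dvd_rfl), one_mul] at h3
    rw [← h3, mul_left_comm, mul_inv_cancel₀ (ph_ne (ht_of ctx) _), mul_one]
  refine good_of t hn S h1 le_rfl T (v := ph (Q : ℂ) (k + 1) * (cs (Q : ℂ) k * cs (Q : ℂ) 1)) ⟨(-1) ^ (k - 1), ?_⟩ h2 ?_
  · have h4 : (Q : ℂ) ^ k - 1 ≠ 0 := sub_ne_zero.2 (ht_of ctx k (by omega))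
    have h5 : (Q : ℂ) ^ 1 - 1 ≠ 0 := sub_ne_zero.2 (ht_of ctx 1 one_pos)
    have h6 := cs_mul h4
    have h7 := cs_mul h5
    rw [pow_one, Nat.sub_self, pow_zero] at h7
    push_cast
    calc ph (Q : ℂ) (k + 1) * (cs (Q : ℂ) k * cs (Q : ℂ) 1) * (((Q : ℂ) ^ k - 1) * ((Q : ℂ) - 1)) =
        ph (Q : ℂ) (k + 1) * ((cs (Q : ℂ) k * ((Q : ℂ) ^ k - 1)) * (cs (Q : ℂ) 1 * ((Q : ℂ) - 1))) := by ring
      _ = _ := by rw [h6, h7]; ring
  · intro χ hχ l hl hlp hfix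
    obtain ⟨a, ha, hal, hfa⟩ := L.fixed_label (t.bij (k + 1) (k + 1) hn le_rfl) hl hfix hχ
    have ho : addOrderOf a = p := by rw [← L.ord a ha, hal, hlp]
    have h0 : a ≠ 0 := by
      rintro rfl
      rw [addOrderOf_zero] at ho
      exact hp.one_lt.ne ho
    have h5 := hfa 0
    rw [zero_add] at h5
    have h8 : ¬ SameZ Q M c 0 := fun h => sameZ_ne h ctx.unit hc0 rfl
    have h9 : ¬ SameZ Q M c a := by
      intro h
      have h10 := perZ_of_same ctx.unit h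
      have h11 := (torZ_iff 1 a).1 ha
      rw [← h10, hc] at h11
      have := Nat.le_of_dvd one_pos h11
      omega
    change repl Q (unl ctx.unit (oneT_mono (k + 1)) (bsz_oneT hm)).t c (oneT (k + 1)) a =
      repl Q (unl ctx.unit (oneT_mono (k + 1)) (bsz_oneT hm)).t c (oneT (k + 1)) 0 at h5
    rw [repl_not _ _ h8, repl_not _ _ h9, unl_zero, unl_ne _ _ _ h0] at h5
    exact oneT_ne hm h5.symm

end Cfsg.Agent.R2.H1.DZ
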