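import Cfsg.Agent.H794.EM.Deg
import Cfsg.Agent.H577.HT.One
import Cfsg.Agent.H421.GU.Orb
import Cfsg.Agent.R2.H1.DZ.Arith

/-!
# The values of the standard model at the scalars (S4527, PSL / PSU)

* `tyS Q z n` : the type of the scalar `z` of degree `n` (`z ^ Q = z`);
* `evR_rv`, `evR_rv_mul` : the values of `rv n c` and of `rv k c * rv 1 0`.
-/

set_option autoImplicit false
set_option linter.unusedSectionVars false

open scoped ComplexConjugate

namespace Cfsg.Agent.R2.H1.DZ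

open Cfsg.Agent.H577.GLB.Std Cfsg.Agent.H614 Cfsg.Agent.H614.GLn Cfsg.Agent.H614.GLn.RSt
open Cfsg.Agent.H615.GU Cfsg.Agent.H794.EM
open Cfsg.Agent.H531.GU (Pop_eq lft_apply)

universe u

variable {K : Type u} [Field K] {θ : K →*₀ ℂ} {Q : ℤ} {M N : ℕ}

/-- the type of the scalar `z` of degree `n` -/
noncomputable def tyS (Q : ℤ) (z : Kˣ) (n : ℕ) : Ty (Orb K Q) := Finsupp.single (Quotient.mk (orbSetoid K Q) z) (cn n)

theorem tyS_one (n : ℕ) : tyS Q (1 : Kˣ) n = tyOne Q n := rfl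

theorem vac_tyS (z : Kˣ) (n : ℕ) : (H615.GU.vac : Ty (Orb K Q) → ℂ) (tyS Q z n) = if n = 0 then 1 else 0 := by
  by_cases hn : n = 0
  · subst hn
    have h2 : (tyS Q z 0 : Ty (Orb K Q)) = 0 := by rw [tyS, cn_zero, Finsupp.single_zero]
    rw [h2, if_pos rfl]
    exact if_pos rfl
  · rw [if_neg hn]
    have h2 : (tyS Q z n : Ty (Orb K Q)) ≠ 0 := by
      intro h
      rw [tyS, Finsupp.single_eq_zero, ← cn_zero] at h
      exact hn (cn_inj h)
    exact if_neg h2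

variable [Finite K]

theorem ht_of (ctx : CtxQ θ Q M N) : ∀ i, 0 < i → (Q : ℂ) ^ i ≠ 1 := fun i hi h =>
  Cfsg.Agent.H421.HT.pow_sub_one_ne ctx.two hi (by
    rw [sub_eq_zero]
    exact_mod_cast h)

/-- **the operators at the scalars** -/
theorem scal_Pop [NeZero M] (ctx : CtxQ θ Q M N) {z : Kˣ} (hz : z ^ Q = z) {k : ℕ} (hk : 0 < k) (c : ZMod M)
    (f : Ty (Orb K Q) → ℂ) (n : ℕ) :
    Pop θ Q M k c f (tyS Q z n) * (ph (Q : ℂ) n)⁻¹ = θ ((z ^ expoZ Q M k c : Kˣ) : K) *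
      (cs (Q : ℂ) k * Sh k (fun n => f (tyS Q z n) * (ph (Q : ℂ) n)⁻¹) n) := by
  classical
  have hM := ctx.card
  have hQ := ctx.unit
  have hd : dOrb K Q (Quotient.mk (orbSetoid K Q) z) = 1 := by
    have h1 := (Cfsg.Agent.H421.GU.dOrb_dvd_iff hM hQ z 1).2 (by rw [pow_one]; exact hz)
    exact Nat.dvd_one.1 h1
  rw [Pop_eq, LinearMap.sum_apply, Finset.sum_apply, Finset.sum_eq_single (Quotient.mk (orbSetoid K Q) z)]
  · rw [hd, if_pos ⟨hk, one_dvd k⟩, Cfsg.Agent.H421.GU.thO_mk hM hQ, hd, Finset.sum_range_one, pow_zero, zpow_one,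
      LinearMap.smul_apply, Pi.smul_apply, smul_eq_mul, mul_assoc, lft_apply, pow_one, Nat.div_one]
    congr 1
    have h1 : (tyS Q z n : Ty (Orb K Q)) (Quotient.mk (orbSetoid K Q) z) = cn n := Finsupp.single_eq_same
    have h2 : (fun c : Col => f ((tyS Q z n).update (Quotient.mk (orbSetoid K Q) z) c)) =
        fun c : Col => f (Finsupp.single (Quotient.mk (orbSetoid K Q) z) c) := by
      funext c
      congr 1
      ext1 j
      simp only [Finsupp.coe_update]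
      by_cases hj : j = Quotient.mk (orbSetoid K Q) z
      · subst hj
        simp
      · rw [Function.update_of_ne hj, Finsupp.single_eq_of_ne hj, tyS, Finsupp.single_eq_of_ne hj]
    rw [h1, h2]
    have h3 := congrFun (Rc_pp (ht_of ctx) k (fun c : Col => f (Finsupp.single (Quotient.mk (orbSetoid K Q) z) c))) n
    rw [Cfsg.Agent.H794.EM.Rc] at h3
    exact h3
  · intro o _ ho
    split_ifs with h
    · rw [LinearMap.smul_apply, Pi.smul_apply, lft_apply]
      have h1 : (tyS Q z n : Ty (Orb K Q)) o = 0 := Finsupp.single_eq_of_ne ho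
      rw [h1, pp_at_zero, smul_zero]
    · rfl
  · intro h
    exact absurd (Finset.mem_univ _) h

theorem evR_X [NeZero M] (v : Var M) : H615.GU.evR θ Q M (MvPolynomial.X v) = Pop θ Q M v.1 v.2 H615.GU.vac := by
  have h := Cfsg.Agent.H531.GU.evR_X_mul θ Q M Cfsg.Agent.H521.GU.i2s v 1
  rwa [mul_one, evR_one] at h

/-- the value of a variable at a scalar -/
theorem evR_X_tyS [NeZero M] (ctx : CtxQ θ Q M N) {z : Kˣ} (hz : z ^ Q = z) {k : ℕ} (hk : 0 < k) (c : ZMod M) (n : ℕ) :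
    H615.GU.evR θ Q M (MvPolynomial.X (k, c)) (tyS Q z n) * (ph (Q : ℂ) n)⁻¹ =
      if k = n then θ ((z ^ expoZ Q M k c : Kˣ) : K) * cs (Q : ℂ) k else 0 := by
  rw [evR_X, scal_Pop ctx hz hk, Sh]
  by_cases h : k = n
  · subst h
    rw [if_pos le_rfl, if_pos rfl, Nat.sub_self]
    simp only [vac_tyS, if_true, ph_zero]
    rw [inv_one, mul_one, mul_one]
  · rw [if_neg h]
    split_ifs with h2
    · rw [vac_tyS, if_neg (by omega), zero_mul, mul_zero, mul_zero]
    · rw [mul_zero, mul_zero]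

/-- the value of a product at a scalar -/
theorem evR_mul_tyS [NeZero M] (ctx : CtxQ θ Q M N) {z : Kˣ} (hz : z ^ Q = z) {k : ℕ} (hk : 0 < k) (c : ZMod M) :
    H615.GU.evR θ Q M (MvPolynomial.X (k, c) * MvPolynomial.X (1, 0)) (tyS Q z (k + 1)) * (ph (Q : ℂ) (k + 1))⁻¹ =
      θ ((z ^ expoZ Q M k c : Kˣ) : K) * (cs (Q : ℂ) k * cs (Q : ℂ) 1) := by
  rw [Cfsg.Agent.H531.GU.evR_X_mul θ Q M Cfsg.Agent.H521.GU.i2s, scal_Pop ctx hz hk, Sh, if_pos (Nat.le_succ k),
    show k + 1 - k = 1 by omega, evR_X_tyS ctx hz one_pos, if_pos rfl]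
  have h1 : expoZ Q M 1 (0 : ZMod M) = 0 := by
    unfold expoZ
    rw [ZMod.val_zero, Nat.cast_zero, zero_mul, Int.zero_ediv]
  rw [h1, zpow_zero, Units.val_one, map_one, one_mul]

omit [Finite K] in
/-- the central character is trivial -/
theorem th_eq_one [NeZero M] {z : Kˣ} (hz : z ^ (Q - 1) = 1) {k : ℕ} {c : ZMod M}
    (hc : ((Phi Q k : ℤ) : ZMod M) * c = 0) : θ ((z ^ expoZ Q M k c : Kˣ) : K) = 1 := by
  have hT : TorZ Q M k c := by
    rw [TorZ]
    have h1 : ((Q : ZMod M) ^ k - 1) = ((Phi Q k * (Q - 1) : ℤ) : ZMod M) := by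
      rw [Phi_mul]
      push_cast
      rfl
    rw [h1, Int.cast_mul, mul_right_comm, hc, zero_mul]
  have h1 := Cfsg.Agent.H421.GU.expoZ_mul hT
  have h2 : (M : ℤ) ∣ c.val * Phi Q k := by
    rw [← ZMod.intCast_zmod_eq_zero_iff_dvd]
    push_cast
    rw [ZMod.natCast_zmod_val, mul_comm, hc]
  obtain ⟨s, hs⟩ := h2
  have hM0 : (M : ℤ) ≠ 0 := by exact_mod_cast NeZero.ne M
  have h3 : expoZ Q M k c = (Q - 1) * s := by
    apply mul_right_cancel₀ hM0
    rw [h1, ← Phi_mul, ← mul_assoc, hs]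
    ring
  rw [h3, zpow_mul, hz, one_zpow, Units.val_one, map_one]

end Cfsg.Agent.R2.H1.DZ
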