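import Cfsg.Agent.R2.H1.DZ.Lab
import Cfsg.Agent.H666.GU.GuLin
import Cfsg.Agent.H941.GU.Tow
import Cfsg.Agent.H614.GU.Fld
import Cfsg.Agent.H120.GLB.Ctx
import Cfsg.Agent.H113.PSU.Descent

/-!
# The unitary groups: good characters and the descent to `PSU_n(q)` (S4527)

* `typ_scal` : the type of a scalar matrix;
* `GoodU F q n p D`, `goodU_T`, `goodU_H`;
* `exists_psu` : descent, `p` prime to the ratio of the degrees.
-/

set_option autoImplicit false
set_option linter.unusedSectionVars false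

open Cfsg
open scoped ComplexConjugate MatrixGroups

namespace Cfsg.Agent.R2.H1.DZ

open Cfsg.Agent.H577.GLB.Std Cfsg.Agent.H614 Cfsg.Agent.H614.GLn.RSt
open Cfsg.Agent.H615.GU Cfsg.Agent.H794.EM Cfsg.Agent.H623.GU Cfsg.Agent.H112.GLB
open Cfsg.Agent.H624.Sl (scl)
open Cfsg.Agent.H113.PSU.Descent Cfsg.Agent.Characters

universe u v

section scal

variable {F : Type v} [Field F] {K : Type u} [Field K] [Algebra F K] [Finite K] {Q : ℤ} {M : ℕ} {n : ℕ}

/-- the type of a scalar -/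
theorem typ_scal (hM : Nat.card Kˣ = M) (hQ : IsUnit (Q : ZMod M)) {X : Type*} [Group X]
    (T : TypeData (dOrb K Q) Q X n) {g : X} {z : Fˣ} {A : GL (Fin n) F}
    (hT : ∀ x : Kˣ, T.typ g (Quotient.mk (orbSetoid K Q) x) = mcol (A : Matrix (Fin n) (Fin n) F) (x : K))
    (hA : A = scl n z) (hz : (Units.map (algebraMap F K).toMonoidHom z) ^ (Q - 1) = 1) :
    T.typ g = tyS Q (Units.map (algebraMap F K).toMonoidHom z) n := by
  classical
  set w : Kˣ := Units.map (algebraMap F K).toMonoidHom z with hw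
  have hA' : A = scl n z * 1 := by rw [hA, mul_one]
  ext1 o
  induction o using Quotient.inductionOn with
  | h x =>
    rw [hT, hA', mcol_scl, tyS, Finsupp.single_apply, ← hw]
    by_cases hx : x = w
    · subst hx
      rw [if_pos rfl, inv_mul_cancel, Units.val_one, Units.val_one]
      exact Cfsg.Agent.H577.HT.mcol_one
    · rw [if_neg, Units.val_one]
      · refine Cfsg.Agent.H577.HT.mcol_one_ne fun h => hx ?_
        have h1 : w⁻¹ * x = 1 := Units.ext h
        exact (inv_mul_eq_one.1 h1).symm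
      · intro h
        apply hx
        obtain ⟨i, hi⟩ := (Cfsg.Agent.H421.GU.mk_eq_iff hM hQ).1 h.symm
        rw [hi]
        have hwQ : ∀ i : ℕ, w ^ (Q ^ i) = w := by
          intro i
          induction i with
          | zero => rw [pow_zero, zpow_one]
          | succ i ih => rw [pow_succ, zpow_mul, ih, zpow_eq_self hz]
        exact hwQ i

end scal

section GU

variable {F : Type u} [Field F] [Fintype F] {q n p : ℕ}

/-- a good character of `GU_n(q)` -/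
def GoodU (F : Type u) [Field F] [Fintype F] (q n p : ℕ) (D : ℤ) : Prop :=
  ∃ χ : IrrCharacter (GU n F q), (∃ u : ℤˣ, (charDegree (χ : GU n F q → ℂ) : ℤ) * D = u * PHz (-(q : ℤ)) n) ∧
    (∀ (z : GU n F q) (c : F), c * c ^ q = 1 →
      (∀ v, ((z : GL (Fin n) F) : Matrix (Fin n) (Fin n) F).mulVec v = c • v) →
        (χ : GU n F q → ℂ) z = (χ : GU n F q → ℂ) 1) ∧
    ∀ l : GU n F q →* ℂˣ, (∀ x ∈ NN n F q, l x = 1) → orderOf l = p →
      ¬ ∀ g, (l g : ℂ) * (χ : GU n F q → ℂ) g = (χ : GU n F q → ℂ) g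

theorem matrix_of_scalar {A : GL (Fin n) F} {c : Fˣ}
    (h : ∀ v, (A : Matrix (Fin n) (Fin n) F).mulVec v = (c : F) • v) : A = scl n c := by
  apply Units.ext
  change (A : Matrix (Fin n) (Fin n) F) = Matrix.scalar (Fin n) (c : F)
  ext i j
  have h1 := congrFun (h (Pi.single j 1)) i
  rw [Matrix.mulVec_single_one, Pi.smul_apply, smul_eq_mul] at h1
  change (A : Matrix (Fin n) (Fin n) F) i j = _ at h1
  rw [h1, Matrix.scalar_apply, Matrix.diagonal_apply, Pi.single_apply]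
  split_ifs <;> simp

/-- good characters from a context -/
theorem goodU_of (hF : Fintype.card F = q ^ 2) {K : Type u} [Field K] [Algebra F K] {θ : K →*₀ ℂ} {M : ℕ} [NeZero M]
    (C : H614.GLn.Ctx F θ n M) (t : Tow θ (-(q : ℤ)) M n p (fun n => GU n F q))
    (ht : ∀ k hk, IsTypU q k (t.T k hk)) {D : ℤ} (h : Good t (le_refl n) (NN n F q) D) : GoodU F q n p D := by
  have hF' : Nat.card F = q ^ 2 := by rw [Nat.card_eq_fintype_card, hF]
  have ctx : CtxQ θ (-(q : ℤ)) M n := H614.GU.ctxQ_of_ctx C hF'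
  have := ctx.finK
  obtain ⟨χ, h1, h2, h3⟩ := h
  refine ⟨χ, h1, fun z c hc hz => ?_, h3⟩
  have hc0 : c ≠ 0 := by
    rintro rfl
    rw [zero_mul] at hc
    exact zero_ne_one hc
  have hcq : (Units.mk0 c hc0) ^ (q + 1) = 1 := by
    apply Units.ext
    rw [Units.val_pow_eq_pow_val, Units.val_mk0, Units.val_one, pow_succ', hc]
  have hzQ : (Units.map (algebraMap F K).toMonoidHom (Units.mk0 c hc0)) ^ (-(q : ℤ) - 1) = 1 := by
    have h4 : (-(q : ℤ) - 1) = -((q + 1 : ℕ) : ℤ) := by push_cast; ring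
    rw [h4, zpow_neg, zpow_natCast, ← map_pow, hcq, map_one, inv_one]
  exact h2 z _ hzQ (typ_scal ctx.card ctx.unit (t.T n le_rfl) (A := (z : GL (Fin n) F)) (z := Units.mk0 c hc0)
    (fun x => ht n le_rfl z x) (matrix_of_scalar fun v => by rw [hz v]; rfl) hzQ)

theorem two_le_q (hF : Fintype.card F = q ^ 2) : 2 ≤ q := by
  have h1 : 2 ≤ Fintype.card F := Fintype.one_lt_card
  rw [hF] at h1
  nlinarith

theorem cast_ne (hF : Fintype.card F = q ^ 2) (hp : p.Prime) (hpq : ¬ p ∣ q) : (p : F) ≠ 0 := by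
  intro h0
  obtain ⟨r, hr⟩ := CharP.exists F
  obtain ⟨f, hrp, hf⟩ := FiniteField.card F r
  rw [CharP.cast_eq_zero_iff F r p] at h0
  have h1 : r = p := (Nat.prime_dvd_prime_iff_eq hrp hp).1 h0
  have h3 : p ∣ q ^ 2 := by
    rw [← hF, hf, h1]
    exact dvd_pow_self p f.pos.ne'
  exact hpq (hp.dvd_of_dvd_pow h3)

/-- **`T_n` for `GU_n(q)`** -/
theorem goodU_T (hF : Fintype.card F = q ^ 2) (hn0 : 0 < n) (hp : p.Prime) (hpq : ¬ p ∣ q)
    (hf : Full (-(q : ℤ)) n) (hcase : ¬ p ∣ n ∨ ¬ p ∣ q + 1 ∨ (5 ≤ n ∧ 4 ≤ q)) :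
    GoodU F q n p ((-(q : ℤ)) ^ n - 1) := by
  have hF' : Nat.card F = q ^ 2 := by rw [Nat.card_eq_fintype_card, hF]
  obtain ⟨K, _, _, θ, M, _, C⟩ := Cfsg.Agent.H120.GLB.Ctx.exists_ctx F n
  have ctx : CtxQ θ (-(q : ℤ)) M n := H614.GU.ctxQ_of_ctx C hF'
  obtain ⟨t, ht⟩ := H941.GU.towU (p := p) hF ctx C hp (cast_ne hF hp hpq)
  refine goodU_of hF C t ht (good_T ctx t le_rfl hn0 hp
    (Cfsg.Agent.H666.GU.guLin hF' ctx le_rfl hn0 (fun h hm hd => C.spl h hm hd) (ht n le_rfl) (t.hyp n le_rfl))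
    (Cfsg.Agent.H577.HT.typ_one_U ctx (t.T n le_rfl) (ht n le_rfl)) hf ?_)
  refine hcase.imp id (Or.imp (fun h3 h5 => h3 ?_) fun ⟨h1, h2⟩ => ⟨h1, ?_⟩)
  · have h4 : (-(q : ℤ) - 1) = -((q + 1 : ℕ) : ℤ) := by push_cast; ring
    rw [h4, dvd_neg] at h5
    exact_mod_cast h5
  · rw [abs_neg, Nat.abs_cast]
    exact_mod_cast h2

/-- **`T_{n-1} × T_1` for `GU_n(q)`** -/
theorem goodU_H (hF : Fintype.card F = q ^ 2) {k : ℕ} (hk : 2 ≤ k) (hp : p.Prime) (hpq : ¬ p ∣ q)
    (hf : Full (-(q : ℤ)) k) : GoodU F q (k + 1) p (((-(q : ℤ)) ^ k - 1) * (-(q : ℤ) - 1)) := by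
  have hF' : Nat.card F = q ^ 2 := by rw [Nat.card_eq_fintype_card, hF]
  obtain ⟨K, _, _, θ, M, _, C⟩ := Cfsg.Agent.H120.GLB.Ctx.exists_ctx F (k + 1)
  have ctx : CtxQ θ (-(q : ℤ)) M (k + 1) := H614.GU.ctxQ_of_ctx C hF'
  obtain ⟨t, ht⟩ := H941.GU.towU (p := p) hF ctx C hp (cast_ne hF hp hpq)
  exact goodU_of hF C t ht (good_H ctx t le_rfl hk hp
    (Cfsg.Agent.H666.GU.guLin hF' ctx le_rfl (Nat.succ_pos k) (fun h hm hd => C.spl h hm hd) (ht _ le_rfl)
      (t.hyp _ le_rfl))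
    (Cfsg.Agent.H577.HT.typ_one_U ctx (t.T _ le_rfl) (ht _ le_rfl)) hf)

/-- the quotient by the kernel of a homomorphism to a finite field is cyclic -/
theorem isCyclic_quot_ker {G : Type*} [Group G] {A : Type*} [CommGroup A] [Finite A] [IsCyclic A] (f : G →* A) :
    IsCyclic (G ⧸ f.ker) := by
  have h1 : IsCyclic f.range := Subgroup.isCyclic _
  exact isCyclic_of_surjective (QuotientGroup.quotientKerEquivRange f).symm.toMonoidHom
    (QuotientGroup.quotientKerEquivRange f).symm.surjective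

/-- **descent to `PSU`** -/
theorem exists_psu (hF : Fintype.card F = q ^ 2) (hn : 3 ≤ n) (hp : p.Prime) {D : ℤ} (h : GoodU F q n p D) :
    ∃ (η : IrrCharacter (PSU n F q)) (r : ℕ), ¬ p ∣ r ∧
      ∃ u : ℤˣ, ((charDegree (η : PSU n F q → ℂ) * r : ℕ) : ℤ) * D = u * PHz (-(q : ℤ)) n := by
  classical
  obtain ⟨χ, ⟨u, hu⟩, hz, hfix⟩ := h
  have hcyc : IsCyclic (GU n F q ⧸ NN n F q) := isCyclic_quot_ker _
  obtain ⟨θ, e, hθ, he, h3, h4, h5, h6⟩ := exists_down (NN n F q) hcyc χ.2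
    (Cfsg.Agent.Blocks.Basic.irr_one_eq_charDegree χ.2) hp hfix
  have hθ' : IsIrrCharacter (SU n F q) (θ ∘ (eSU n F q).toMonoidHom) :=
    Core.isIrr_comp (eSU n F q).toMonoidHom (eSU n F q).surjective hθ
  obtain ⟨η, hη, hη'⟩ := Cfsg.Agent.H477.HC.exists_quot (Subgroup.center (SU n F q)) hθ' (fun z hzc => by
    obtain ⟨c, hc, hcq, hc'⟩ := Cfsg.Agent.ClassicalGeometry.PSUAutBasic.exists_scalar_of_mem_center hF hn hzc
    change θ (eSU n F q z) = θ (eSU n F q 1)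
    rw [map_one]
    have hv : ∀ v, ((((eSU n F q z : NN n F q) : GU n F q) : GL (Fin n) F) : Matrix (Fin n) (Fin n) F).mulVec v =
        c • v := fun v => by rw [eSU_val, hc']
    refine h6 _ ?_ (hz _ c hcq hv)
    rw [Subgroup.mem_center_iff]
    intro g
    apply Subtype.ext
    apply Units.ext
    apply Matrix.toLin'.injective
    apply LinearMap.ext
    intro v
    change (((g : GL (Fin n) F) : Matrix (Fin n) (Fin n) F) *
      ((((eSU n F q z : NN n F q) : GU n F q) : GL (Fin n) F) : Matrix (Fin n) (Fin n) F)).mulVec v =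
      (((((eSU n F q z : NN n F q) : GU n F q) : GL (Fin n) F) : Matrix (Fin n) (Fin n) F) *
      ((g : GL (Fin n) F) : Matrix (Fin n) (Fin n) F)).mulVec v
    rw [← Matrix.mulVec_mulVec, ← Matrix.mulVec_mulVec, hv, hv, Matrix.mulVec_smul])
  have he' : charDegree η = e := by
    apply Cfsg.Agent.Blocks.Basic.charDegree_of_eq
    rw [← he]
    have := hη' 1
    rw [QuotientGroup.mk_one] at this
    rw [this]
    change θ (eSU n F q 1) = θ 1
    rw [map_one]
  refine ⟨⟨η, hη⟩, _, h4, u, ?_⟩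
  change ((charDegree η * (charDegree (χ : GU n F q → ℂ) / e) : ℕ) : ℤ) * D = _
  rw [he', Nat.mul_div_cancel' h3, hu]

end GU

end Cfsg.Agent.R2.H1.DZ
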